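import Mathlib
import Cfsg.Prelude.Def_PLocal
import Cfsg.Prelude.Def_LocalEven

set_option autoImplicit false

namespace Cfsg.Agent.Lib.Helper13.QdAlt

/-- A `p`-subgroup of `Perm (Fin n)` with `n < p²` is commutative. -/
theorem pgroup_perm_comm {p n : ℕ} [Fact p.Prime] (hn : n < p ^ 2)
    (P : Subgroup (Equiv.Perm (Fin n))) (hP : IsPGroup p P) :
    ∀ g ∈ P, ∀ h ∈ P, g * h = h * g := by
  classical
  have hp : p.Prime := Fact.out
  intro g hg h hh
  refine Equiv.ext fun i => ?_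
  obtain ⟨k, hk⟩ := hP.card_orbit i
  have hcardO : Nat.card (MulAction.orbit P i) ≤ n := by
    have := Nat.card_le_card_of_injective (Subtype.val : MulAction.orbit P i → Fin n) Subtype.val_injective
    simpa using this
  have hk1 : k ≤ 1 := by
    by_contra hcon
    have h2 : p ^ 2 ≤ p ^ k := Nat.pow_le_pow_right hp.pos (by omega)
    omega
  let f : P →* Equiv.Perm (MulAction.orbit P i) := MulAction.toPermHom P (MulAction.orbit P i)
  have hrange : IsPGroup p f.range := hP.of_surjective f.rangeRestrict f.rangeRestrict_surjective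
  obtain ⟨j, hj⟩ := IsPGroup.iff_card.mp hrange
  have hdvd : p ^ j ∣ (p ^ k).factorial := by
    have := Subgroup.card_subgroup_dvd_card f.range
    rwa [Nat.card_perm, hk, hj] at this
  have hj1 : j ≤ 1 := by
    by_contra hcon
    have h2 : p ^ 2 ∣ (p ^ k).factorial := (pow_dvd_pow p (by omega)).trans hdvd
    interval_cases k
    · simp at h2
      have := hp.one_lt
      omega
    · rw [pow_one] at h2
      have h3 : p.factorial = p * (p - 1).factorial := by
        obtain ⟨q, rfl⟩ : ∃ q, p = q + 1 := ⟨p - 1, by have := hp.pos; omega⟩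
        rw [Nat.factorial_succ]; simp
      rw [h3, pow_two] at h2
      have h4 : p ∣ (p - 1).factorial := Nat.dvd_of_mul_dvd_mul_left hp.pos h2
      rw [hp.dvd_factorial] at h4
      have := hp.pos
      omega
  have hcomm : f ⟨g, hg⟩ * f ⟨h, hh⟩ = f ⟨h, hh⟩ * f ⟨g, hg⟩ := by
    have hcyc : IsCyclic f.range := by
      rcases Nat.lt_or_ge j 1 with h0 | h1'
      · have h1 : Nat.card f.range = 1 := by rw [hj, show j = 0 by omega, pow_zero]
        have : Subsingleton f.range := (Nat.card_eq_one_iff_unique.mp h1).1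
        exact isCyclic_of_subsingleton
      · have h1 : Nat.card f.range = p := by rw [hj, show j = 1 by omega, pow_one]
        exact isCyclic_of_prime_card h1
    obtain ⟨c, hc⟩ := hcyc.exists_generator
    obtain ⟨a, ha⟩ := Subgroup.mem_zpowers_iff.mp (hc ⟨f ⟨g, hg⟩, ⟨_, rfl⟩⟩)
    obtain ⟨b, hb⟩ := Subgroup.mem_zpowers_iff.mp (hc ⟨f ⟨h, hh⟩, ⟨_, rfl⟩⟩)
    have h1 := congrArg Subtype.val ha
    have h2 := congrArg Subtype.val hb
    simp only [Subgroup.coe_zpow] at h1 h2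
    rw [← h1, ← h2, ← zpow_add, ← zpow_add, add_comm]
  have := congrArg (fun σ => ((σ ⟨i, MulAction.mem_orbit_self i⟩ : MulAction.orbit P i) : Fin n)) hcomm
  exact this


/-- If all `p`-subgroups of the finite group `G` are commutative, so are those of any quotient. -/
theorem pgroup_comm_quotient {G : Type*} [Group G] [Finite G] {p : ℕ} [Fact p.Prime]
    (hG : ∀ P : Subgroup G, IsPGroup p P → ∀ a ∈ P, ∀ b ∈ P, a * b = b * a)
    (N : Subgroup G) [N.Normal] (W : Subgroup (G ⧸ N)) (hW : IsPGroup p W) :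
    ∀ a ∈ W, ∀ b ∈ W, a * b = b * a := by
  intro a ha b hb
  let H : Subgroup G := W.comap (QuotientGroup.mk' N)
  let f : H →* W := ((QuotientGroup.mk' N).comp H.subtype).codRestrict W (fun x => x.2)
  have hf : Function.Surjective f := by
    rintro ⟨w, hw⟩
    obtain ⟨g, rfl⟩ := QuotientGroup.mk'_surjective N w
    exact ⟨⟨g, hw⟩, rfl⟩
  obtain ⟨P⟩ : Nonempty (Sylow p H) := inferInstance
  have htop : ((P.mapSurjective hf : Sylow p W) : Subgroup W) = ⊤ :=
    ((P.mapSurjective hf).is_maximal' (Q := ⊤) (hW.to_subgroup ⊤) le_top).symm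
  rw [Sylow.coe_mapSurjective] at htop
  have ha' : (⟨a, ha⟩ : W) ∈ (P : Subgroup H).map f := by rw [htop]; trivial
  have hb' : (⟨b, hb⟩ : W) ∈ (P : Subgroup H).map f := by rw [htop]; trivial
  obtain ⟨x, hx, hxa⟩ := ha'
  obtain ⟨y, hy, hyb⟩ := hb'
  have hPG : IsPGroup p ((P : Subgroup H).map H.subtype) := P.isPGroup'.map _
  have hc := hG _ hPG x.1 ⟨x, hx, rfl⟩ y.1 ⟨y, hy, rfl⟩
  have h1 : a = QuotientGroup.mk' N x.1 := (congrArg Subtype.val hxa).symm
  have h2 : b = QuotientGroup.mk' N y.1 := (congrArg Subtype.val hyb).symm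
  rw [h1, h2, ← map_mul, ← map_mul, hc]

open Matrix

/-- Unitriangular elements. -/
def hE {p : ℕ} (a e f : ZMod p) : Matrix.SpecialLinearGroup (Fin 3) (ZMod p) :=
  ⟨!![1, a, e; 0, 1, f; 0, 0, 1], by simp [Matrix.det_fin_three]⟩

/-- Lower elementary elements. -/
def lE {p : ℕ} (c : ZMod p) : Matrix.SpecialLinearGroup (Fin 3) (ZMod p) :=
  ⟨!![1, 0, 0; c, 1, 0; 0, 0, 1], by simp [Matrix.det_fin_three]⟩

theorem hE_mul {p : ℕ} (a e f a' e' f' : ZMod p) :
    hE a e f * hE a' e' f' = hE (a + a') (e + e' + a * f') (f + f') := by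
  apply Subtype.ext
  show (hE a e f).1 * (hE a' e' f').1 = (hE _ _ _).1
  unfold hE
  ext i j
  fin_cases i <;> fin_cases j <;> simp [Matrix.mul_apply, Fin.sum_univ_three] <;> ring

theorem lE_mul {p : ℕ} (c c' : ZMod p) : lE c * lE c' = lE (c + c') := by
  apply Subtype.ext
  show (lE c).1 * (lE c').1 = (lE _).1
  unfold lE
  ext i j
  fin_cases i <;> fin_cases j <;> simp [Matrix.mul_apply, Fin.sum_univ_three]

theorem hE_zero {p : ℕ} : hE (0 : ZMod p) 0 0 = 1 := by
  apply Subtype.ext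
  show (hE (0 : ZMod p) 0 0).1 = 1
  unfold hE
  ext i j
  fin_cases i <;> fin_cases j <;> simp

theorem mem_qd_iff {p : ℕ} (M : Matrix.SpecialLinearGroup (Fin 3) (ZMod p)) :
    M ∈ Cfsg.qd p ↔ M.1 2 0 = 0 ∧ M.1 2 1 = 0 ∧ M.1 2 2 = 1 := by
  constructor
  · intro hM
    refine Subgroup.closure_induction (p := fun M _ => M.1 2 0 = 0 ∧ M.1 2 1 = 0 ∧ M.1 2 2 = 1)
      ?_ ?_ ?_ ?_ hM
    · intro x hx; exact hx
    · simp
    · intro x y _ _ hx hy
      obtain ⟨a0, a1, a2⟩ := hx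
      obtain ⟨b0, b1, b2⟩ := hy
      refine ⟨?_, ?_, ?_⟩ <;>
      · show (x.1 * y.1) 2 _ = _
        simp [Matrix.mul_apply, Fin.sum_univ_three, a0, a1, a2, b0, b1, b2]
    · intro x _ hx
      obtain ⟨a0, a1, a2⟩ := hx
      have h : x.1 * (x⁻¹).1 = 1 := by
        rw [← Matrix.SpecialLinearGroup.coe_mul, mul_inv_cancel]; rfl
      have h0 := congrFun (congrFun h 2) 0
      have h1 := congrFun (congrFun h 2) 1
      have h2 := congrFun (congrFun h 2) 2
      simp [Matrix.mul_apply, Fin.sum_univ_three, a0, a1, a2] at h0 h1 h2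
      exact ⟨h0, h1, h2⟩
  · intro h
    exact Subgroup.subset_closure h

theorem hE_mem {p : ℕ} (a e f : ZMod p) : hE a e f ∈ Cfsg.qd p := by
  rw [mem_qd_iff]; simp [hE]

theorem lE_mem {p : ℕ} (c : ZMod p) : lE c ∈ Cfsg.qd p := by
  rw [mem_qd_iff]; simp [lE]


/-- The affine plane `{u | u 2 = 1}` on which `Qd(p)` acts. -/
def Y (p : ℕ) : Type := {u : Fin 3 → ZMod p // u 2 = 1}

theorem mulVec_two {p : ℕ} (M : Matrix.SpecialLinearGroup (Fin 3) (ZMod p)) (hM : M ∈ Cfsg.qd p)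
    (u : Fin 3 → ZMod p) : (M.1 *ᵥ u) 2 = u 2 := by
  obtain ⟨h0, h1, h2⟩ := (mem_qd_iff M).mp hM
  simp [Matrix.mulVec, dotProduct, Fin.sum_univ_three, h0, h1, h2]

theorem inv_mul_coe {p : ℕ} (M : Cfsg.qd p) : (M⁻¹).1.1 * M.1.1 = 1 := by
  rw [← Matrix.SpecialLinearGroup.coe_mul, ← Subgroup.coe_mul, inv_mul_cancel]; rfl

theorem mul_inv_coe {p : ℕ} (M : Cfsg.qd p) : M.1.1 * (M⁻¹).1.1 = 1 := by
  rw [← Matrix.SpecialLinearGroup.coe_mul, ← Subgroup.coe_mul, mul_inv_cancel]; rfl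

/-- The action of `Qd(p)` on the affine plane. -/
def rho (p : ℕ) : Cfsg.qd p →* Equiv.Perm (Y p) where
  toFun M :=
    { toFun := fun u => ⟨M.1.1 *ᵥ u.1, by rw [mulVec_two M.1 M.2]; exact u.2⟩
      invFun := fun u => ⟨(M⁻¹).1.1 *ᵥ u.1, by rw [mulVec_two _ (M⁻¹).2]; exact u.2⟩
      left_inv := fun u => by
        apply Subtype.ext
        show (M⁻¹).1.1 *ᵥ (M.1.1 *ᵥ u.1) = u.1
        rw [Matrix.mulVec_mulVec, inv_mul_coe, Matrix.one_mulVec]
      right_inv := fun u => by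
        apply Subtype.ext
        show M.1.1 *ᵥ ((M⁻¹).1.1 *ᵥ u.1) = u.1
        rw [Matrix.mulVec_mulVec, mul_inv_coe, Matrix.one_mulVec] }
  map_one' := by
    apply Equiv.ext
    intro u
    apply Subtype.ext
    show (1 : Matrix (Fin 3) (Fin 3) (ZMod p)) *ᵥ u.1 = u.1
    rw [Matrix.one_mulVec]
  map_mul' M N := by
    apply Equiv.ext
    intro u
    apply Subtype.ext
    show (M.1.1 * N.1.1) *ᵥ u.1 = M.1.1 *ᵥ (N.1.1 *ᵥ u.1)
    rw [Matrix.mulVec_mulVec]

theorem rho_apply {p : ℕ} (M : Cfsg.qd p) (u : Y p) : (rho p M u).1 = M.1.1 *ᵥ u.1 := rfl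

theorem rho_injective (p : ℕ) : Function.Injective (rho p) := by
  rw [injective_iff_map_eq_one]
  intro M hM
  have key : ∀ u : Fin 3 → ZMod p, u 2 = 1 → M.1.1 *ᵥ u = u := by
    intro u hu
    have := congrArg Subtype.val (DFunLike.congr_fun hM (⟨u, hu⟩ : Y p))
    exact this
  have h2 := key ![0, 0, 1] rfl
  have h0 := key ![1, 0, 1] rfl
  have h1 := key ![0, 1, 1] rfl
  apply Subtype.ext
  apply Subtype.ext
  show M.1.1 = 1
  ext i j
  have a2 := congrFun h2 i
  have a0 := congrFun h0 i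
  have a1 := congrFun h1 i
  simp [Matrix.mulVec, dotProduct, Fin.sum_univ_three] at a0 a1 a2
  fin_cases i <;> fin_cases j <;> simp_all

instance (p : ℕ) [NeZero p] : Fintype (Y p) := by unfold Y; infer_instance
instance (p : ℕ) : DecidableEq (Y p) := by unfold Y; infer_instance

theorem card_Y (p : ℕ) [NeZero p] : Fintype.card (Y p) = p ^ 2 := by
  have e : Y p ≃ (Fin 2 → ZMod p) :=
    { toFun := fun u => ![u.1 0, u.1 1]
      invFun := fun w => ⟨![w 0, w 1, 1], rfl⟩
      left_inv := fun u => by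
        apply Subtype.ext
        funext j
        fin_cases j
        · rfl
        · rfl
        · exact u.2.symm
      right_inv := fun w => by
        funext j
        fin_cases j <;> rfl }
  rw [Fintype.card_congr e]
  simp [ZMod.card]


instance (p : ℕ) [Fact p.Prime] : NeZero p := ⟨(Fact.out : p.Prime).ne_zero⟩

/-- Elements of `Qd(p)` act as even permutations of the affine plane, for `p` odd. -/
theorem sign_rho {p : ℕ} [Fact p.Prime] (hp : p ≠ 2) (M : Cfsg.qd p) :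
    Equiv.Perm.sign (rho p M) = 1 := by
  have hpp : p.Prime := Fact.out
  set χ : Cfsg.qd p →* ℤˣ := Equiv.Perm.sign.comp (rho p) with hχ
  set K : Subgroup (Matrix.SpecialLinearGroup (Fin 3) (ZMod p)) := χ.ker.map (Cfsg.qd p).subtype with hK
  have hKmem : ∀ g : Matrix.SpecialLinearGroup (Fin 3) (ZMod p), g ∈ K ↔ ∃ x : Cfsg.qd p, χ x = 1 ∧ x.1 = g := by
    intro g
    rw [hK, Subgroup.mem_map]
    constructor
    · rintro ⟨x, hx, rfl⟩; exact ⟨x, MonoidHom.mem_ker.mp hx, rfl⟩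
    · rintro ⟨x, hx, rfl⟩; exact ⟨x, MonoidHom.mem_ker.mpr hx, rfl⟩
  have hsq : ∀ s ∈ Cfsg.qd p, s * s ∈ K := by
    intro s hs
    rw [hKmem]
    refine ⟨⟨s, hs⟩ * ⟨s, hs⟩, ?_, rfl⟩
    rw [map_mul, Int.units_mul_self]
  have h2ne : (2 : ZMod p) ≠ 0 := by
    intro h
    have h' : ((2 : ℕ) : ZMod p) = 0 := by exact_mod_cast h
    rw [ZMod.natCast_eq_zero_iff] at h'
    have := Nat.le_of_dvd (by norm_num) h'
    have := hpp.two_le
    omega
  obtain ⟨h, hh⟩ : ∃ h : ZMod p, 2 * h = 1 := ⟨2⁻¹, mul_inv_cancel₀ h2ne⟩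
  have hEK : ∀ a e f : ZMod p, hE a e f ∈ K := by
    intro a e f
    have : hE a e f = hE (h * a) (h * (e - h * a * (h * f))) (h * f) * hE (h * a) (h * (e - h * a * (h * f))) (h * f) := by
      rw [hE_mul]
      congr 1
      · linear_combination (-a) * hh
      · linear_combination (-(e - h * a * (h * f))) * hh
      · linear_combination (-f) * hh
    rw [this]
    exact hsq _ (hE_mem _ _ _)
  have lEK : ∀ c : ZMod p, lE c ∈ K := by
    intro c
    have : lE c = lE (h * c) * lE (h * c) := by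
      rw [lE_mul]
      congr 1
      linear_combination (-c) * hh
    rw [this]
    exact hsq _ (lE_mem _)
  have hmain : ∀ N : Matrix.SpecialLinearGroup (Fin 3) (ZMod p), N ∈ Cfsg.qd p → N.1 1 0 ≠ 0 → N ∈ K := by
    intro N hN hc
    obtain ⟨h20, h21, h22⟩ := (mem_qd_iff N).mp hN
    have hdet : N.1 0 0 * N.1 1 1 - N.1 0 1 * N.1 1 0 = 1 := by
      have := N.2
      rw [Matrix.det_fin_three] at this
      simp only [h20, h21, h22] at this
      linear_combination this
    have : N = hE 0 (N.1 0 2) (N.1 1 2) * hE ((N.1 0 0 - 1) / N.1 1 0) 0 0 * lE (N.1 1 0) * hE ((N.1 1 1 - 1) / N.1 1 0) 0 0 := by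
      apply Subtype.ext
      show N.1 = (hE 0 (N.1 0 2) (N.1 1 2)).1 * (hE ((N.1 0 0 - 1) / N.1 1 0) 0 0).1 * (lE (N.1 1 0)).1 * (hE ((N.1 1 1 - 1) / N.1 1 0) 0 0).1
      unfold hE lE
      ext i j
      fin_cases i <;> fin_cases j <;> simp [Matrix.mul_apply, Fin.sum_univ_three, h20, h21, h22]
      · field_simp; ring
      · field_simp; linear_combination (-1 : ZMod p) * hdet
      · field_simp; ring
    rw [this]
    exact K.mul_mem (K.mul_mem (K.mul_mem (hEK _ _ _) (hEK _ _ _)) (lEK _)) (hEK _ _ _)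
  have hall : ∀ N : Matrix.SpecialLinearGroup (Fin 3) (ZMod p), N ∈ Cfsg.qd p → N ∈ K := by
    intro N hN
    by_cases hc : N.1 1 0 = 0
    · obtain ⟨h20, h21, h22⟩ := (mem_qd_iff N).mp hN
      have hdet : N.1 0 0 * N.1 1 1 = 1 := by
        have := N.2
        rw [Matrix.det_fin_three] at this
        simp only [h20, h21, h22, hc] at this
        linear_combination this
      have ha : N.1 0 0 ≠ 0 := by
        intro h0; rw [h0, zero_mul] at hdet; exact zero_ne_one hdet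
      have h1 : lE 1 * N ∈ K := by
        apply hmain _ ((Cfsg.qd p).mul_mem (lE_mem 1) hN)
        show ((lE (1 : ZMod p)).1 * N.1) 1 0 ≠ 0
        unfold lE
        simp [Matrix.mul_apply, Fin.sum_univ_three, hc]
        exact ha
      have h2 : N = (lE 1)⁻¹ * (lE 1 * N) := by group
      rw [h2]
      exact K.mul_mem (K.inv_mem (lEK 1)) h1
    · exact hmain N hN hc
  obtain ⟨x, hx, hxM⟩ := (hKmem M.1).mp (hall M.1 M.2)
  have : x = M := Subtype.ext hxM
  rw [this] at hx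
  exact hx


theorem hE_pow {p : ℕ} (a e f : ZMod p) (k : ℕ) :
    hE a e f ^ k = hE ((k : ZMod p) * a) ((k : ZMod p) * e + ((k.choose 2 : ℕ) : ZMod p) * (a * f)) ((k : ZMod p) * f) := by
  induction k with
  | zero => simp [hE_zero]
  | succ k ih =>
    rw [pow_succ, ih, hE_mul]
    congr 1
    · push_cast; ring
    · have : (((k + 1).choose 2 : ℕ) : ZMod p) = (k.choose 2 : ZMod p) + k := by
        rw [Nat.choose_succ_succ' k 1, Nat.choose_one_right]
        push_cast; ring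
      rw [this]; push_cast; ring
    · push_cast; ring

theorem hE_pow_p {p : ℕ} [Fact p.Prime] (hp : p ≠ 2) (a e f : ZMod p) : hE a e f ^ p = 1 := by
  have hpp : p.Prime := Fact.out
  rw [hE_pow]
  have h1 : ((p : ℕ) : ZMod p) = 0 := ZMod.natCast_self p
  have h2 : ((p.choose 2 : ℕ) : ZMod p) = 0 := by
    rw [ZMod.natCast_eq_zero_iff]
    exact hpp.dvd_choose_self (by norm_num) (by have := hpp.two_le; omega)
  rw [h1, h2]
  simp [hE_zero]

theorem mem_closure_hE {p : ℕ} (g : Matrix.SpecialLinearGroup (Fin 3) (ZMod p))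
    (hg : g ∈ Subgroup.closure ({hE (1 : ZMod p) 0 0, hE 0 0 1} : Set _)) :
    ∃ a e f, g = hE a e f := by
  refine Subgroup.closure_induction (p := fun g _ => ∃ a e f, g = hE a e f) ?_ ?_ ?_ ?_ hg
  · rintro x (rfl | rfl)
    · exact ⟨_, _, _, rfl⟩
    · exact ⟨_, _, _, rfl⟩
  · exact ⟨0, 0, 0, hE_zero.symm⟩
  · rintro x y _ _ ⟨a, e, f, rfl⟩ ⟨a', e', f', rfl⟩
    exact ⟨_, _, _, hE_mul _ _ _ _ _ _⟩
  · rintro x _ ⟨a, e, f, rfl⟩
    refine ⟨-a, a * f - e, -f, ?_⟩
    apply inv_eq_of_mul_eq_one_right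
    rw [hE_mul, ← hE_zero]
    congr 1 <;> ring

end Cfsg.Agent.Lib.Helper13.QdAlt
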