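import Mathlib
import Cfsg.Agent.Lib.Helper13.QdAlt
import Cfsg.Agent.S0065

set_option autoImplicit false

namespace Cfsg.Agent.Lib.Helper13.QdSylow

open Cfsg.Agent.Lib.Helper13.QdAlt
open Matrix

variable {p : ℕ}

/-- Unitriangular elements of `Qd(p)`. -/
def u (a e f : ZMod p) : Cfsg.qd p := ⟨hE a e f, hE_mem a e f⟩

theorem u_mul (a e f a' e' f' : ZMod p) :
    u a e f * u a' e' f' = u (a + a') (e + e' + a * f') (f + f') :=
  Subtype.ext (hE_mul a e f a' e' f')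

theorem u_zero : u (0 : ZMod p) 0 0 = 1 := Subtype.ext hE_zero

theorem u_inv (a e f : ZMod p) : (u a e f)⁻¹ = u (-a) (a * f - e) (-f) := by
  apply inv_eq_of_mul_eq_one_right
  rw [u_mul, ← u_zero]
  congr 1 <;> ring

theorem u_01 (a e f : ZMod p) : (u a e f).1.1 0 1 = a := by simp [u, hE]
theorem u_02 (a e f : ZMod p) : (u a e f).1.1 0 2 = e := by simp [u, hE]
theorem u_12 (a e f : ZMod p) : (u a e f).1.1 1 2 = f := by simp [u, hE]
theorem u_00 (a e f : ZMod p) : (u a e f).1.1 0 0 = 1 := by simp [u, hE]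
theorem u_10 (a e f : ZMod p) : (u a e f).1.1 1 0 = 0 := by simp [u, hE]
theorem u_11 (a e f : ZMod p) : (u a e f).1.1 1 1 = 1 := by simp [u, hE]

theorem u_inj {a e f a' e' f' : ZMod p} (h : u a e f = u a' e' f') : a = a' ∧ e = e' ∧ f = f' := by
  refine ⟨?_, ?_, ?_⟩
  · rw [← u_01 a e f, h, u_01]
  · rw [← u_02 a e f, h, u_02]
  · rw [← u_12 a e f, h, u_12]

theorem row2 (g : Cfsg.qd p) : g.1.1 2 0 = 0 ∧ g.1.1 2 1 = 0 ∧ g.1.1 2 2 = 1 :=
  (mem_qd_iff g.1).mp g.2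

theorem eq_u_of (g : Cfsg.qd p) (h00 : g.1.1 0 0 = 1) (h10 : g.1.1 1 0 = 0)
    (h11 : g.1.1 1 1 = 1) : g = u (g.1.1 0 1) (g.1.1 0 2) (g.1.1 1 2) := by
  obtain ⟨h20, h21, h22⟩ := row2 g
  apply Subtype.ext
  apply Subtype.ext
  ext i j
  fin_cases i <;> fin_cases j <;> simp [u, hE, h00, h10, h11, h20, h21, h22]

/-- The unitriangular subgroup. -/
def U (p : ℕ) : Subgroup (Cfsg.qd p) where
  carrier := {g | ∃ a e f, g = u a e f}
  mul_mem' := by
    rintro _ _ ⟨a, e, f, rfl⟩ ⟨a', e', f', rfl⟩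
    exact ⟨_, _, _, u_mul a e f a' e' f'⟩
  one_mem' := ⟨0, 0, 0, u_zero.symm⟩
  inv_mem' := by
    rintro _ ⟨a, e, f, rfl⟩
    exact ⟨_, _, _, u_inv a e f⟩

theorem mem_U (g : Cfsg.qd p) : g ∈ U p ↔ ∃ a e f, g = u a e f := Iff.rfl

theorem u_mem (a e f : ZMod p) : u a e f ∈ U p := ⟨a, e, f, rfl⟩

theorem card_U [NeZero p] : Nat.card (U p) = p ^ 3 := by
  have hbij : Function.Bijective
      (fun t : ZMod p × ZMod p × ZMod p => (⟨u t.1 t.2.1 t.2.2, u_mem _ _ _⟩ : U p)) := by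
    constructor
    · rintro ⟨a, e, f⟩ ⟨a', e', f'⟩ h
      have h' : u a e f = u a' e' f' := congrArg Subtype.val h
      obtain ⟨h1, h2, h3⟩ := u_inj h'
      simp [h1, h2, h3]
    · rintro ⟨g, a, e, f, rfl⟩
      exact ⟨(a, e, f), rfl⟩
  rw [← Nat.card_congr (Equiv.ofBijective _ hbij)]
  simp [Nat.card_eq_fintype_card, ZMod.card]
  ring

theorem isPGroup_U [Fact p.Prime] : IsPGroup p (U p) := IsPGroup.of_card (n := 3) card_U

theorem coe_mul3 (g x h : Cfsg.qd p) : (g * x * h).1.1 = g.1.1 * x.1.1 * h.1.1 := rfl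

theorem coe_mul2 (g x : Cfsg.qd p) : (g * x).1.1 = g.1.1 * x.1.1 := rfl

/-- If `g` conjugates a unitriangular element with nonzero `(0,1)` entry into `U` then `g` is
upper triangular. -/
theorem z_zero_of_conj [Fact p.Prime] (g : Cfsg.qd p) (a e f a' e' f' : ZMod p) (ha : a ≠ 0)
    (h : g * u a e f * g⁻¹ = u a' e' f') : g.1.1 1 0 = 0 := by
  obtain ⟨h20, h21, h22⟩ := row2 g
  have h' : g * u a e f = u a' e' f' * g := mul_inv_eq_iff_eq_mul.mp h
  have hm : g.1.1 * (u a e f).1.1 = (u a' e' f').1.1 * g.1.1 := by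
    rw [← coe_mul2, ← coe_mul2, h']
  have h11 := congrFun (congrFun hm 1) 1
  simp only [Matrix.mul_apply, Fin.sum_univ_three, u, hE] at h11
  simp [h20, h21, h22] at h11
  have h11' : g.1.1 1 0 * a = 0 := by
    rcases h11 with h11 | h11
    · rw [h11]; ring
    · rw [h11]; ring
  exact (mul_eq_zero.mp h11').resolve_right ha

theorem z_zero_of_conj_center [Fact p.Prime] (g : Cfsg.qd p) (e e' : ZMod p) (he : e ≠ 0)
    (h : g * u 0 e 0 * g⁻¹ = u 0 e' 0) : g.1.1 1 0 = 0 := by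
  obtain ⟨h20, h21, h22⟩ := row2 g
  have h' : g * u 0 e 0 = u 0 e' 0 * g := mul_inv_eq_iff_eq_mul.mp h
  have hm : g.1.1 * (u 0 e 0).1.1 = (u 0 e' 0).1.1 * g.1.1 := by
    rw [← coe_mul2, ← coe_mul2, h']
  have h12 := congrFun (congrFun hm 1) 2
  simp only [Matrix.mul_apply, Fin.sum_univ_three, u, hE] at h12
  simp [h20, h21, h22] at h12
  have h12' : g.1.1 1 0 * e = 0 := by
    rcases h12 with h12 | h12
    · rw [h12]; ring
    · rw [h12]; ring
  exact (mul_eq_zero.mp h12').resolve_right he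

theorem mul_inv_mat (g : Cfsg.qd p) : g.1.1 * (g⁻¹).1.1 = 1 := by
  rw [← coe_mul2, mul_inv_cancel]; rfl

/-- Entries of the inverse of an upper triangular element. -/
theorem inv_entries [Fact p.Prime] (g : Cfsg.qd p) (hz : g.1.1 1 0 = 0) :
    (g⁻¹).1.1 1 0 = 0 ∧ g.1.1 0 0 * (g⁻¹).1.1 0 0 = 1 ∧ g.1.1 1 1 * (g⁻¹).1.1 1 1 = 1 := by
  obtain ⟨h20, h21, h22⟩ := row2 g
  obtain ⟨k20, k21, k22⟩ := row2 g⁻¹
  have hm : g.1.1 * (g⁻¹).1.1 = 1 := mul_inv_mat g
  generalize (g⁻¹).1.1 = k at *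
  have e00 := congrFun (congrFun hm 0) 0
  have e10 := congrFun (congrFun hm 1) 0
  have e11 := congrFun (congrFun hm 1) 1
  simp only [Matrix.mul_apply, Fin.sum_univ_three, hz, k20, k21, k22] at e00 e10 e11
  simp at e00 e10 e11
  have hk10 : k 1 0 = 0 := by
    rcases e10 with h | h
    · rw [h] at e11
      simp at e11
    · exact h
  refine ⟨hk10, ?_, e11⟩
  rw [hk10] at e00
  simpa using e00

/-- Upper triangular elements normalize `U`. -/
theorem conj_mem_U [Fact p.Prime] (g : Cfsg.qd p) (hz : g.1.1 1 0 = 0) (x : Cfsg.qd p)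
    (hx : x ∈ U p) : g * x * g⁻¹ ∈ U p := by
  obtain ⟨a, e, f, rfl⟩ := hx
  obtain ⟨h20, h21, h22⟩ := row2 g
  obtain ⟨k20, k21, k22⟩ := row2 g⁻¹
  obtain ⟨k10, e00, e11⟩ := inv_entries g hz
  have hy := eq_u_of (g * u a e f * g⁻¹) ?_ ?_ ?_
  · rw [hy]; exact u_mem _ _ _
  · rw [coe_mul3]
    generalize (g⁻¹).1.1 = k at *
    simp only [Matrix.mul_apply, Fin.sum_univ_three, u, hE]
    simp [hz, h20, h21, h22, k20, k21, k22, k10]
    exact e00
  · rw [coe_mul3]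
    generalize (g⁻¹).1.1 = k at *
    simp only [Matrix.mul_apply, Fin.sum_univ_three, u, hE]
    simp [hz, h20, h21, h22, k20, k21, k22, k10]
  · rw [coe_mul3]
    generalize (g⁻¹).1.1 = k at *
    simp only [Matrix.mul_apply, Fin.sum_univ_three, u, hE]
    simp [hz, h20, h21, h22, k20, k21, k22, k10]
    exact e11

theorem mem_normalizer_U [Fact p.Prime] (g : Cfsg.qd p) :
    g ∈ Subgroup.normalizer ((U p : Subgroup (Cfsg.qd p)) : Set (Cfsg.qd p)) ↔ g.1.1 1 0 = 0 := by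
  constructor
  · intro hg
    have h1 := (Subgroup.mem_normalizer_iff.mp hg (u 1 0 0)).mp (u_mem _ _ _)
    obtain ⟨a', e', f', h⟩ := h1
    exact z_zero_of_conj g 1 0 0 a' e' f' one_ne_zero h
  · intro hz
    rw [Subgroup.mem_normalizer_iff]
    intro x
    constructor
    · exact conj_mem_U g hz x
    · intro hx
      have := conj_mem_U g⁻¹ (inv_entries g hz).1 _ hx
      have e2 : g⁻¹ * (g * x * g⁻¹) * g⁻¹⁻¹ = x := by group
      rw [e2] at this
      exact this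

theorem pow_diag (g : Cfsg.qd p) (hz : g.1.1 1 0 = 0) (n : ℕ) :
    (g ^ n).1.1 1 0 = 0 ∧ (g ^ n).1.1 0 0 = (g.1.1 0 0) ^ n ∧ (g ^ n).1.1 1 1 = (g.1.1 1 1) ^ n := by
  obtain ⟨h20, h21, h22⟩ := row2 g
  induction n with
  | zero => simp
  | succ n ih =>
    obtain ⟨i1, i2, i3⟩ := ih
    obtain ⟨k20, k21, k22⟩ := row2 (g ^ n)
    rw [pow_succ, coe_mul2]
    generalize (g ^ n).1.1 = k at *
    refine ⟨?_, ?_, ?_⟩
    · simp only [Matrix.mul_apply, Fin.sum_univ_three]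
      simp [hz, h20, i1]
    · simp only [Matrix.mul_apply, Fin.sum_univ_three]
      simp [hz, h20, i1, i2, pow_succ]
    · simp only [Matrix.mul_apply, Fin.sum_univ_three]
      simp [hz, h21, i1, i3, pow_succ]

/-- `U` is a Sylow `p`-subgroup of `Qd(p)`. -/
def USyl (p : ℕ) [Fact p.Prime] : Sylow p (Cfsg.qd p) where
  toSubgroup := U p
  isPGroup' := isPGroup_U
  is_maximal' := by
    intro Q hQ hUQ
    by_contra hne
    have hlt : (U p).subgroupOf Q < ⊤ := by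
      rw [lt_top_iff_ne_top]
      intro h
      rw [Subgroup.subgroupOf_eq_top] at h
      exact hne (le_antisymm h hUQ)
    have hnil : Group.IsNilpotent Q := hQ.isNilpotent
    have hnc := Group.normalizerCondition_of_isNilpotent (G := Q) _ hlt
    obtain ⟨g, hgN, hgU⟩ := SetLike.exists_of_lt hnc
    have hgU' : (g : Cfsg.qd p) ∉ U p := fun h => hgU (Subgroup.mem_subgroupOf.mpr h)
    have h1 := (Subgroup.mem_normalizer_iff.mp hgN ⟨u 1 0 0, hUQ (u_mem _ _ _)⟩).mp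
      (Subgroup.mem_subgroupOf.mpr (u_mem _ _ _))
    rw [Subgroup.mem_subgroupOf] at h1
    obtain ⟨a', e', f', h⟩ := h1
    have hz : (g : Cfsg.qd p).1.1 1 0 = 0 :=
      z_zero_of_conj (g : Cfsg.qd p) 1 0 0 a' e' f' one_ne_zero h
    obtain ⟨k, hk⟩ := hQ g
    have hk' : (g : Cfsg.qd p) ^ p ^ k = 1 := by
      have := congrArg Subtype.val hk
      simpa using this
    obtain ⟨-, d0, d1⟩ := pow_diag (g : Cfsg.qd p) hz (p ^ k)
    rw [hk', ZMod.pow_card_pow] at d0 d1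
    have h00 : (g : Cfsg.qd p).1.1 0 0 = 1 := by rw [← d0]; simp
    have h11 : (g : Cfsg.qd p).1.1 1 1 = 1 := by rw [← d1]; simp
    apply hgU'
    rw [eq_u_of (g : Cfsg.qd p) h00 hz h11]
    exact u_mem _ _ _

theorem USyl_coe [Fact p.Prime] : ((USyl p : Sylow p (Cfsg.qd p)) : Subgroup (Cfsg.qd p)) = U p := rfl

theorem U_cases (x : U p) : ∃ a e f, x = ⟨u a e f, u_mem a e f⟩ := by
  obtain ⟨x, a, e, f, rfl⟩ := x
  exact ⟨a, e, f, rfl⟩

theorem U_mk_mul (a e f a' e' f' : ZMod p) :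
    (⟨u a e f, u_mem _ _ _⟩ : U p) * ⟨u a' e' f', u_mem _ _ _⟩
        = ⟨u (a + a') (e + e' + a * f') (f + f'), u_mem _ _ _⟩ := Subtype.ext (u_mul _ _ _ _ _ _)

/-- The swap automorphism of `U`. -/
def sigmaFun (x : U p) : U p :=
  ⟨u (x.1.1.1 1 2) (x.1.1.1 0 1 * x.1.1.1 1 2 - x.1.1.1 0 2) (x.1.1.1 0 1), u_mem _ _ _⟩

theorem sigmaFun_u (a e f : ZMod p) :
    sigmaFun ⟨u a e f, u_mem a e f⟩ = ⟨u f (a * f - e) a, u_mem _ _ _⟩ := by
  apply Subtype.ext
  show u _ _ _ = u _ _ _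
  rw [u_01, u_02, u_12]

def sigma (p : ℕ) : U p ≃* U p where
  toFun := sigmaFun
  invFun := sigmaFun
  left_inv := by
    intro x
    obtain ⟨a, e, f, rfl⟩ := U_cases x
    rw [sigmaFun_u, sigmaFun_u]
    apply Subtype.ext
    show u _ _ _ = u _ _ _
    congr 1
    ring
  right_inv := by
    intro x
    obtain ⟨a, e, f, rfl⟩ := U_cases x
    rw [sigmaFun_u, sigmaFun_u]
    apply Subtype.ext
    show u _ _ _ = u _ _ _
    congr 1
    ring
  map_mul' := by
    intro x y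
    obtain ⟨a, e, f, rfl⟩ := U_cases x
    obtain ⟨a', e', f', rfl⟩ := U_cases y
    rw [U_mk_mul, sigmaFun_u, sigmaFun_u, sigmaFun_u, U_mk_mul]
    apply Subtype.ext
    show u _ _ _ = u _ _ _
    congr 1
    ring

theorem sigma_u (a e f : ZMod p) :
    sigma p ⟨u a e f, u_mem a e f⟩ = ⟨u f (a * f - e) a, u_mem _ _ _⟩ := sigmaFun_u a e f

/-- Conjugation by an upper triangular element, as an automorphism of `U`. -/
def conjU [Fact p.Prime] (g : Cfsg.qd p) (hz : g.1.1 1 0 = 0) : U p ≃* U p where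
  toFun x := ⟨g * x.1 * g⁻¹, conj_mem_U g hz x.1 x.2⟩
  invFun x := ⟨g⁻¹ * x.1 * g, by
    have := conj_mem_U g⁻¹ (inv_entries g hz).1 x.1 x.2
    rwa [inv_inv] at this⟩
  left_inv x := by
    apply Subtype.ext
    show g⁻¹ * (g * x.1 * g⁻¹) * g = x.1
    group
  right_inv x := by
    apply Subtype.ext
    show g * (g⁻¹ * x.1 * g) * g⁻¹ = x.1
    group
  map_mul' x y := by
    apply Subtype.ext
    show g * (x.1 * y.1) * g⁻¹ = (g * x.1 * g⁻¹) * (g * y.1 * g⁻¹)
    group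

theorem char_mem_iff {H : Type*} [Group H] (T : Subgroup H) (hTc : T.Characteristic)
    (φ : H ≃* H) (x : H) : φ x ∈ T ↔ x ∈ T := by
  have := Subgroup.characteristic_iff_comap_eq.mp hTc φ
  constructor
  · intro h
    rw [← this]
    exact h
  · intro h
    rw [← this] at h
    exact h

/-- The normalizer of a nontrivial characteristic subgroup of `U`. -/
theorem mem_normalizer_char [Fact p.Prime] (T : Subgroup (U p)) (hT : T ≠ ⊥)
    (hTc : T.Characteristic) (g : Cfsg.qd p) :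
    g ∈ Subgroup.normalizer ((T.map (U p).subtype : Subgroup (Cfsg.qd p)) : Set (Cfsg.qd p))
      ↔ g.1.1 1 0 = 0 := by
  constructor
  · intro hg
    have hnil : Group.IsNilpotent (U p) := (isPGroup_U (p := p)).isNilpotent
    have hTn : T.Normal := Subgroup.normal_of_characteristic T
    have hne := Cfsg.Agent.S0065.normal_inf_center_ne_bot T hT
    obtain ⟨⟨z, hzT, hzC⟩, hz1⟩ : ∃ z : (T ⊓ Subgroup.center (U p) : Subgroup (U p)), z ≠ 1 :=
      (Subgroup.ne_bot_iff_exists_ne_one).mp hne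
    have hz1' : z ≠ 1 := fun h => hz1 (Subtype.ext h)
    replace hzT : z ∈ T := hzT
    replace hzC : z ∈ Subgroup.center (U p) := hzC
    clear hz1
    obtain ⟨a, e, f, rfl⟩ := U_cases z
    rw [Subgroup.mem_center_iff] at hzC
    have c1 := hzC ⟨u 1 0 0, u_mem _ _ _⟩
    have c2 := hzC ⟨u 0 0 1, u_mem _ _ _⟩
    rw [U_mk_mul, U_mk_mul] at c1 c2
    obtain ⟨-, c1e, -⟩ := u_inj (congrArg Subtype.val c1)
    obtain ⟨-, c2e, -⟩ := u_inj (congrArg Subtype.val c2)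
    have hf : f = 0 := by linear_combination c1e
    have ha : a = 0 := by linear_combination -c2e
    subst hf ha
    have he : e ≠ 0 := by
      rintro rfl
      exact hz1' (Subtype.ext u_zero)
    -- normalizer condition
    have key : ∀ t : U p, t ∈ T → ∃ t' : U p, t' ∈ T ∧ (t' : Cfsg.qd p) = g * (t : Cfsg.qd p) * g⁻¹ := by
      intro t ht
      have := (Subgroup.mem_normalizer_iff.mp hg (t : Cfsg.qd p)).mp ⟨t, ht, rfl⟩
      obtain ⟨t', ht', h⟩ := this
      exact ⟨t', ht', h⟩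
    by_cases hA : ∃ t : U p, t ∈ T ∧ (t : Cfsg.qd p).1.1 0 1 ≠ 0
    · obtain ⟨t, ht, hta⟩ := hA
      obtain ⟨t', ht', h⟩ := key t ht
      obtain ⟨a, e, f, rfl⟩ := U_cases t
      obtain ⟨a', e', f', rfl⟩ := U_cases t'
      have hta' : a ≠ 0 := by
        have : ((⟨u a e f, u_mem a e f⟩ : U p) : Cfsg.qd p).1.1 0 1 = a := u_01 a e f
        rwa [this] at hta
      exact z_zero_of_conj g a e f a' e' f' hta' h.symm
    · push Not at hA
      obtain ⟨t', ht', h⟩ := key _ hzT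
      obtain ⟨a', e', f', rfl⟩ := U_cases t'
      have h1 := hA _ ht'
      have ha' : a' = 0 := by
        have : ((⟨u a' e' f', u_mem a' e' f'⟩ : U p) : Cfsg.qd p).1.1 0 1 = a' := u_01 a' e' f'
        rwa [this] at h1
      have h2 := hA _ ((char_mem_iff T hTc (sigma p) _).mpr ht')
      rw [sigma_u] at h2
      have hf' : f' = 0 := by
        have : ((⟨u f' (a' * f' - e') a', u_mem _ _ _⟩ : U p) : Cfsg.qd p).1.1 0 1 = f' :=
          u_01 _ _ _
        rwa [this] at h2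
      subst ha' hf'
      exact z_zero_of_conj_center g e e' he h.symm
  · intro hz
    rw [Subgroup.mem_normalizer_iff]
    intro x
    constructor
    · rintro ⟨t, ht, rfl⟩
      exact ⟨conjU g hz t, (char_mem_iff T hTc (conjU g hz) t).mpr ht, rfl⟩
    · rintro ⟨t, ht, htx⟩
      refine ⟨(conjU g hz).symm t, (char_mem_iff T hTc (conjU g hz).symm t).mpr ht, ?_⟩
      show g⁻¹ * (t : Cfsg.qd p) * g = x
      have : (t : Cfsg.qd p) = g * x * g⁻¹ := htx
      rw [this]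
      group

theorem normalizer_char_eq [Fact p.Prime] (T : Subgroup (U p)) (hT : T ≠ ⊥)
    (hTc : T.Characteristic) :
    Subgroup.normalizer ((T.map (U p).subtype : Subgroup (Cfsg.qd p)) : Set (Cfsg.qd p))
      = Subgroup.normalizer ((U p : Subgroup (Cfsg.qd p)) : Set (Cfsg.qd p)) := by
  ext g
  rw [mem_normalizer_char T hT hTc, mem_normalizer_U]

theorem lE_not_mem_normalizer [Fact p.Prime] :
    (⟨lE 1, lE_mem 1⟩ : Cfsg.qd p) ∉
      Subgroup.normalizer ((U p : Subgroup (Cfsg.qd p)) : Set (Cfsg.qd p)) := by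
  rw [mem_normalizer_U]
  simp [lE]

section transport

variable {G : Type*} [Group G]

/-- The conjugation isomorphism. -/
def kappa (H S : Subgroup G) (c : G) (hS : ∀ x, x ∈ S ↔ c⁻¹ * x * c ∈ H) : H ≃* S where
  toFun x := ⟨c * x.1 * c⁻¹, (hS _).mpr (by
    have e : c⁻¹ * (c * x.1 * c⁻¹) * c = x.1 := by group
    rw [e]; exact x.2)⟩
  invFun y := ⟨c⁻¹ * y.1 * c, (hS _).mp y.2⟩
  left_inv x := by
    apply Subtype.ext
    show c⁻¹ * (c * x.1 * c⁻¹) * c = x.1
    group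
  right_inv y := by
    apply Subtype.ext
    show c * (c⁻¹ * y.1 * c) * c⁻¹ = y.1
    group
  map_mul' x y := by
    apply Subtype.ext
    show c * (x.1 * y.1) * c⁻¹ = (c * x.1 * c⁻¹) * (c * y.1 * c⁻¹)
    group

theorem kappa_coe (H S : Subgroup G) (c : G) (hS : ∀ x, x ∈ S ↔ c⁻¹ * x * c ∈ H) (x : H) :
    ((kappa H S c hS x : S) : G) = c * x.1 * c⁻¹ := rfl

theorem kappa_symm_coe (H S : Subgroup G) (c : G) (hS : ∀ x, x ∈ S ↔ c⁻¹ * x * c ∈ H) (y : S) :
    (((kappa H S c hS).symm y : H) : G) = c⁻¹ * y.1 * c := rfl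

theorem normalizer_conj (X Y : Subgroup G) (c : G) (h : ∀ x, x ∈ Y ↔ c⁻¹ * x * c ∈ X) (g : G) :
    g ∈ Subgroup.normalizer (Y : Set G) ↔ c⁻¹ * g * c ∈ Subgroup.normalizer (X : Set G) := by
  rw [Subgroup.mem_normalizer_iff, Subgroup.mem_normalizer_iff]
  constructor
  · intro hg y
    have := hg (c * y * c⁻¹)
    rw [h, h] at this
    have e1 : c⁻¹ * (c * y * c⁻¹) * c = y := by group
    have e2 : c⁻¹ * (g * (c * y * c⁻¹) * g⁻¹) * c = c⁻¹ * g * c * y * (c⁻¹ * g * c)⁻¹ := by group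
    rwa [e1, e2] at this
  · intro hg x
    rw [h, h]
    have := hg (c⁻¹ * x * c)
    have e2 : c⁻¹ * g * c * (c⁻¹ * x * c) * (c⁻¹ * g * c)⁻¹ = c⁻¹ * (g * x * g⁻¹) * c := by group
    rwa [e2] at this

theorem transport (H S : Subgroup G) (c : G) (hS : ∀ x, x ∈ S ↔ c⁻¹ * x * c ∈ H)
    (T : Subgroup S) (hT : T ≠ ⊥) (hTc : T.Characteristic) :
    ∃ T₁ : Subgroup H, T₁ ≠ ⊥ ∧ T₁.Characteristic ∧
      ∀ x, x ∈ T.map S.subtype ↔ c⁻¹ * x * c ∈ T₁.map H.subtype := by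
  refine ⟨T.comap (kappa H S c hS).toMonoidHom, ?_, ?_, ?_⟩
  · obtain ⟨⟨t, ht⟩, ht1⟩ := (Subgroup.ne_bot_iff_exists_ne_one).mp hT
    intro hbot
    have hmem : (kappa H S c hS).symm t ∈ T.comap (kappa H S c hS).toMonoidHom := by
      rw [Subgroup.mem_comap]
      show (kappa H S c hS) ((kappa H S c hS).symm t) ∈ T
      rw [MulEquiv.apply_symm_apply]
      exact ht
    rw [hbot, Subgroup.mem_bot] at hmem
    apply ht1
    apply Subtype.ext
    show t = 1
    have := congrArg (kappa H S c hS) hmem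
    rwa [MulEquiv.apply_symm_apply, map_one] at this
  · rw [Subgroup.characteristic_iff_comap_eq]
    intro φ
    ext x
    rw [Subgroup.mem_comap, Subgroup.mem_comap, Subgroup.mem_comap]
    have := char_mem_iff T hTc ((kappa H S c hS).symm.trans (φ.trans (kappa H S c hS)))
      (kappa H S c hS x)
    simp only [MulEquiv.trans_apply, MulEquiv.symm_apply_apply] at this
    exact this
  · intro x
    constructor
    · rintro ⟨t, ht, rfl⟩
      refine ⟨(kappa H S c hS).symm t, ?_, rfl⟩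
      show (kappa H S c hS).symm t ∈ T.comap (kappa H S c hS).toMonoidHom
      rw [Subgroup.mem_comap]
      show (kappa H S c hS) ((kappa H S c hS).symm t) ∈ T
      rw [MulEquiv.apply_symm_apply]
      exact ht
    · rintro ⟨h, hh, hx⟩
      refine ⟨kappa H S c hS h, hh, ?_⟩
      show c * h.1 * c⁻¹ = x
      have : h.1 = c⁻¹ * x * c := hx
      rw [this]
      group

end transport

theorem sylow_mem_iff [Fact p.Prime] (S : Sylow p (Cfsg.qd p)) :
    ∃ c : Cfsg.qd p, ∀ x, x ∈ (S : Subgroup (Cfsg.qd p)) ↔ c⁻¹ * x * c ∈ U p := by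
  obtain ⟨c, hc⟩ := MulAction.exists_smul_eq (Cfsg.qd p) (USyl p) S
  refine ⟨c, fun x => ?_⟩
  rw [← hc, Sylow.coe_subgroup_smul, Subgroup.mem_pointwise_smul_iff_inv_smul_mem, USyl_coe]
  have : (MulAut.conj c)⁻¹ • x = c⁻¹ * x * c := by
    rw [MulAut.smul_def, ← map_inv, MulAut.conj_apply, inv_inv]
  rw [this]

end Cfsg.Agent.Lib.Helper13.QdSylow
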