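import Mathlib
import Cfsg.Agent.Lib.Helper13.SL2Irr

set_option autoImplicit false
set_option linter.unusedSectionVars false

namespace Cfsg.Agent.Lib.Helper13.SL2Irr2

open scoped ComplexConjugate
open Cfsg.Agent.Lib.Helper1 Cfsg.Agent.Lib.Helper13.GL2Ind Cfsg.Agent.Lib.Helper13.GL2Irr
  Cfsg.Agent.Lib.Helper13.SL2Ind Cfsg.Agent.Lib.Helper13.SL2Irr

universe u

theorem nat_dvd_of_eq {n k : ℕ} (hk : k ≠ 0) {c : ℂ} (hc : IsIntegral ℤ c)
    (h : (n : ℂ) + (k : ℂ) * c = 0) : k ∣ n := by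
  apply nat_dvd_of_isIntegral_div hk
  have hk' : (k : ℂ) ≠ 0 := by exact_mod_cast hk
  have h1 : (n : ℂ) / (k : ℂ) = -c := by
    rw [div_eq_iff hk']
    linear_combination h
  rw [h1]
  exact hc.neg

theorem irr_isIntegral {G : Type u} [Group G] [Fintype G] {ψ : G → ℂ}
    (hψ : Cfsg.IsIrrCharacter G ψ) (g : G) : IsIntegral ℤ (ψ g) := by
  obtain ⟨k, ρ, -, rfl⟩ := hψ
  exact isIntegral_char ρ _

section sl2

variable {F : Type u} [Field F] [Fintype F] [DecidableEq F]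

/-! ### characteristic two -/

theorem mulChar_sq_char2 [CharP F 2] (α : MulChar F ℂ) (hα : α ^ 2 = 1) : α = 1 := by
  have h1 : orderOf α ∣ 2 := orderOf_dvd_of_pow_eq_one hα
  have h2 : orderOf α ∣ Nat.card (MulChar F ℂ) := orderOf_dvd_natCard α
  rw [card_mulChar] at h2
  have heven : Fintype.card F % 2 = 0 := FiniteField.even_card_of_char_two (ringChar.eq F 2)
  have h3 : orderOf α = 1 := by
    rcases (Nat.dvd_prime Nat.prime_two).mp h1 with h | h
    · exact h
    · exfalso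
      rw [h] at h2
      have : 1 ≤ Fintype.card F := Fintype.card_pos
      omega
  exact orderOf_eq_one_iff.mp h3

theorem cuspS_deg_char2 [CharP F 2] {ψ : Matrix.SpecialLinearGroup (Fin 2) F → ℂ}
    (hψ : IsCuspS ψ) : ψ 1 = (Fintype.card F : ℂ) - 1 := by
  have h := cuspS_unip hψ twist_of_char_two
  obtain ⟨n, hn0, hn⟩ := IsIrrCharacter.degree_pos hψ.1
  have hq2 : 1 < Fintype.card F := Fintype.one_lt_card
  have hcast : ((Fintype.card F - 1 : ℕ) : ℂ) = (Fintype.card F : ℂ) - 1 := by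
    rw [Nat.cast_sub (by omega)]; simp
  have hdvd : (Fintype.card F - 1) ∣ n := by
    apply nat_dvd_of_eq (by omega) (irr_isIntegral hψ.1 (bS (1 : Fˣ) 1 : ↥(BS F)))
    rw [hcast, ← hn]
    linear_combination (1 / 2 : ℂ) * h
  have hle := cuspS_deg_le hψ hn
  have heq : n = Fintype.card F - 1 := Nat.le_antisymm hle (Nat.le_of_dvd hn0 hdvd)
  rw [hn, heq, hcast]

theorem irrS_cases_char2 [CharP F 2] {ψ : Matrix.SpecialLinearGroup (Fin 2) F → ℂ}
    (hψ : Cfsg.IsIrrCharacter (Matrix.SpecialLinearGroup (Fin 2) F) ψ) :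
    ψ = (fun _ => 1) ∨ ψ = stS F ∨
    (∃ α : MulChar F ℂ, α ^ 2 ≠ 1 ∧ ψ = Cfsg.indFun (BS F) (thetaS α)) ∨
    (IsCuspS ψ ∧ ψ 1 = (Fintype.card F : ℂ) - 1) := by
  rcases irrS_cases hψ with h | h | h | ⟨α, hα1, hα, -⟩ | h
  · exact Or.inl h
  · exact Or.inr (Or.inl h)
  · exact Or.inr (Or.inr (Or.inl h))
  · exact absurd (mulChar_sq_char2 α hα) hα1
  · exact Or.inr (Or.inr (Or.inr ⟨h, cuspS_deg_char2 h⟩))

/-! ### odd characteristic -/

theorem ringChar_ne_two_of_odd (hodd : Odd (Fintype.card F)) : ringChar F ≠ 2 := by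
  intro h
  have h1 := FiniteField.even_card_of_char_two h
  have h2 := Nat.odd_iff.mp hodd
  omega

/-- the quadratic character with complex values -/
noncomputable def epsC (F : Type u) [Field F] [Fintype F] [DecidableEq F] : MulChar F ℂ :=
  (quadraticChar F).ringHomComp (Int.castRingHom ℂ)

theorem epsC_apply (a : F) : epsC F a = ((quadraticChar F a : ℤ) : ℂ) := rfl

theorem epsC_sq : epsC F ^ 2 = 1 :=
  ((quadraticChar_isQuadratic F).comp _).sq_eq_one

theorem epsC_ne_one (hF : ringChar F ≠ 2) : epsC F ≠ 1 := by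
  obtain ⟨a, ha⟩ := quadraticChar_exists_neg_one' hF
  intro h
  have h1 := congrArg (fun χ : MulChar F ℂ => χ a) h
  simp only [epsC_apply, ha, MulChar.one_apply_coe] at h1
  norm_num at h1

theorem eps_unique (α : MulChar F ℂ) (hα : α ^ 2 = 1) (hα1 : α ≠ 1) :
    α = epsC F := by
  have hsqval : ∀ b : Fˣ, α b * α b = 1 := by
    intro b
    have h1 := congrArg (fun χ : MulChar F ℂ => χ b) hα
    simpa [pow_two, MulChar.mul_apply, MulChar.one_apply_coe] using h1
  have hsq1 : ∀ x : F, x ≠ 0 → IsSquare x → α x = 1 := by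
    rintro x hx ⟨s, rfl⟩
    have hs0 : s ≠ 0 := left_ne_zero_of_mul hx
    rw [map_mul]
    exact hsqval (Units.mk0 s hs0)
  obtain ⟨c, hc⟩ := (MulChar.ne_one_iff).mp hα1
  have hc' : α c = -1 := by
    rcases mul_self_eq_one_iff.mp (hsqval c) with h | h
    · exact absurd h hc
    · exact h
  have hcns : ¬ IsSquare (c : F) := fun h => hc (hsq1 _ c.ne_zero h)
  apply MulChar.ext
  intro a
  by_cases ha : IsSquare (a : F)
  · rw [epsC_apply, (quadraticChar_one_iff_isSquare a.ne_zero).mpr ha, hsq1 _ a.ne_zero ha]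
    simp
  · rw [epsC_apply, quadraticChar_neg_one_iff_not_isSquare.mpr ha]
    have h1 : IsSquare ((a : F) * c) := by
      rw [← quadraticChar_one_iff_isSquare (mul_ne_zero a.ne_zero c.ne_zero), map_mul,
        quadraticChar_neg_one_iff_not_isSquare.mpr ha,
        quadraticChar_neg_one_iff_not_isSquare.mpr hcns]
      norm_num
    have h2 := hsq1 _ (mul_ne_zero a.ne_zero c.ne_zero) h1
    rw [map_mul, hc'] at h2
    push_cast
    linear_combination -h2

theorem cuspS_deg_odd (hodd : Odd (Fintype.card F))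
    {ψ : Matrix.SpecialLinearGroup (Fin 2) F → ℂ} (hψ : IsCuspS ψ) :
    ψ 1 = (((Fintype.card F - 1) / 2 : ℕ) : ℂ) ∨ ψ 1 = (Fintype.card F : ℂ) - 1 := by
  obtain ⟨ν, -, hν⟩ := exists_twist_of_odd (ringChar_ne_two_of_odd hodd)
  have h := cuspS_unip hψ hν
  obtain ⟨n, hn0, hn⟩ := IsIrrCharacter.degree_pos hψ.1
  have hq2 : 1 < Fintype.card F := Fintype.one_lt_card
  obtain ⟨k, hk⟩ := hodd
  have hk1 : (Fintype.card F - 1) / 2 = k := by omega
  have hcast : (Fintype.card F : ℂ) - 1 = 2 * (k : ℂ) := by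
    rw [hk]; push_cast; ring
  have hdvd : k ∣ n := by
    apply nat_dvd_of_eq (by omega) ((irr_isIntegral hψ.1 (bS (1 : Fˣ) 1 : ↥(BS F))).add
      (irr_isIntegral hψ.1 (bS (1 : Fˣ) ν : ↥(BS F))))
    rw [← hn]
    rw [hcast] at h
    linear_combination (1 / 2 : ℂ) * h
  have hle := cuspS_deg_le hψ hn
  obtain ⟨m, hm⟩ := hdvd
  have hm1 : m = 1 ∨ m = 2 := by
    have h1 : k * m ≤ 2 * k := by rw [← hm]; omega
    have h2 : m ≤ 2 := by
      by_contra hcon
      push Not at hcon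
      have : k * 3 ≤ k * m := Nat.mul_le_mul_left k hcon
      omega
    have h3 : m ≠ 0 := by
      rintro rfl
      omega
    omega
  rcases hm1 with rfl | rfl
  · left
    rw [hn, hm, hk1, mul_one]
  · right
    rw [hn, hm, hcast]
    push_cast
    ring

theorem irrS_cases_odd (hodd : Odd (Fintype.card F))
    {ψ : Matrix.SpecialLinearGroup (Fin 2) F → ℂ}
    (hψ : Cfsg.IsIrrCharacter (Matrix.SpecialLinearGroup (Fin 2) F) ψ) :
    ψ = (fun _ => 1) ∨ ψ = stS F ∨
    (∃ α : MulChar F ℂ, α ^ 2 ≠ 1 ∧ ψ = Cfsg.indFun (BS F) (thetaS α)) ∨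
    Cfsg.classInner (Cfsg.indFun (BS F) (thetaS (epsC F))) ψ ≠ 0 ∨ IsCuspS ψ := by
  rcases irrS_cases hψ with h | h | h | ⟨α, hα1, hα, hne⟩ | h
  · exact Or.inl h
  · exact Or.inr (Or.inl h)
  · exact Or.inr (Or.inr (Or.inl h))
  · rw [eps_unique α hα hα1] at hne
    exact Or.inr (Or.inr (Or.inr (Or.inl hne)))
  · exact Or.inr (Or.inr (Or.inr (Or.inr h)))

end sl2

end Cfsg.Agent.Lib.Helper13.SL2Irr2
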