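import Mathlib
import Cfsg.Agent.Lib.Helper13.SL2Irr2

set_option autoImplicit false
set_option linter.unusedSectionVars false

namespace Cfsg.Agent.Lib.Helper13.SL2Irr3

open scoped ComplexConjugate
open Cfsg.Agent.Lib.Helper1 Cfsg.Agent.Lib.Helper13.GL2Ind Cfsg.Agent.Lib.Helper13.GL2Irr
  Cfsg.Agent.Lib.Helper13.SL2Ind Cfsg.Agent.Lib.Helper13.SL2Irr Cfsg.Agent.Lib.Helper13.SL2Irr2

universe u

theorem lin_absurd {k : ℕ} {a b c d : ℕ} (h : (a : ℂ) * k + b = (c : ℂ) * k + d)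
    (hne : a * k + b ≠ c * k + d) : False :=
  hne (by exact_mod_cast h)

section sl2

variable {F : Type u} [Field F] [Fintype F] [DecidableEq F]

theorem card_casts {k : ℕ} (hk : Fintype.card F = 2 * k + 1) :
    (Fintype.card F : ℂ) = 2 * (k : ℂ) + 1 ∧
    (((Fintype.card F + 1) / 2 : ℕ) : ℂ) = (k : ℂ) + 1 ∧
    (((Fintype.card F - 1) / 2 : ℕ) : ℂ) = (k : ℂ) := by
  have e1 : (Fintype.card F + 1) / 2 = k + 1 := by omega
  have e2 : (Fintype.card F - 1) / 2 = k := by omega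
  rw [e1, e2, hk]
  push_cast
  exact ⟨rfl, rfl, rfl⟩

/-- classification of the irreducible characters in odd characteristic, with degrees -/
theorem cases_odd {k : ℕ} (hk : Fintype.card F = 2 * k + 1)
    {ψ : Matrix.SpecialLinearGroup (Fin 2) F → ℂ}
    (hψ : Cfsg.IsIrrCharacter (Matrix.SpecialLinearGroup (Fin 2) F) ψ) :
    (ψ = (fun _ => 1) ∧ ψ 1 = 1) ∨ (ψ = stS F ∧ ψ 1 = 2 * (k : ℂ) + 1) ∨
    ((∃ α : MulChar F ℂ, α ^ 2 ≠ 1 ∧ ψ = Cfsg.indFun (BS F) (thetaS α)) ∧ ψ 1 = 2 * (k : ℂ) + 2) ∨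
    (Cfsg.classInner (Cfsg.indFun (BS F) (thetaS (epsC F))) ψ ≠ 0 ∧ ψ 1 = (k : ℂ) + 1) ∨
    (IsCuspS ψ ∧ ψ 1 = (k : ℂ)) ∨ (IsCuspS ψ ∧ ψ 1 = 2 * (k : ℂ)) := by
  have hodd : Odd (Fintype.card F) := ⟨k, hk⟩
  obtain ⟨c0, c1, c2⟩ := card_casts hk
  rcases irrS_cases_odd hodd hψ with rfl | rfl | ⟨α, hα, rfl⟩ | h | h
  · exact Or.inl ⟨rfl, rfl⟩
  · exact Or.inr (Or.inl ⟨rfl, by rw [stS_one, c0]⟩)
  · exact Or.inr (Or.inr (Or.inl ⟨⟨α, hα, rfl⟩, by rw [indS_one, c0]; ring⟩))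
  · refine Or.inr (Or.inr (Or.inr (Or.inl ⟨h, ?_⟩)))
    have h2 := half_deg (epsC_ne_one (ringChar_ne_two_of_odd hodd)) epsC_sq hψ h
    rw [c0] at h2
    linear_combination (1 / 2 : ℂ) * h2
  · rcases cuspS_deg_odd hodd h with h2 | h2
    · exact Or.inr (Or.inr (Or.inr (Or.inr (Or.inl ⟨h, by rw [h2, c2]⟩))))
    · exact Or.inr (Or.inr (Or.inr (Or.inr (Or.inr ⟨h, by rw [h2, c0]; ring⟩))))

end sl2

end Cfsg.Agent.Lib.Helper13.SL2Irr3
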