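import Mathlib
import Cfsg.Agent.Lib.Helper13.SL2Irr3

set_option autoImplicit false
set_option linter.unusedSectionVars false

namespace Cfsg.Agent.Lib.Helper13.SL2Irr4

open scoped ComplexConjugate
open Cfsg.Agent.Lib.Helper1 Cfsg.Agent.Lib.Helper13.GL2Ind Cfsg.Agent.Lib.Helper13.GL2Irr
  Cfsg.Agent.Lib.Helper13.SL2Ind Cfsg.Agent.Lib.Helper13.SL2Irr Cfsg.Agent.Lib.Helper13.SL2Irr2
  Cfsg.Agent.Lib.Helper13.SL2Irr3

universe u

section general

variable {G : Type u} [Group G] [Fintype G]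

/-- the central character -/
theorem central_char {ψ : G → ℂ} (hψ : Cfsg.IsIrrCharacter G ψ) {z : G}
    (hz : z ∈ Subgroup.center G) :
    ∃ lam : ℂ, conj lam * lam = 1 ∧ ∀ g, ψ (z * g) = lam * ψ g := by
  obtain ⟨n, ρ, hρ, rfl⟩ := hψ
  have := hρ
  obtain ⟨lam, h1, h2⟩ := central_scalar ρ hz
  refine ⟨lam, h2, fun g => ?_⟩
  have h3 : ρ (z * g) = lam • ρ g := by
    rw [map_mul, h1]
    ext v
    simp
  rw [character_apply, character_apply, h3, map_smul, smul_eq_mul]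

theorem card_two_pigeon {X : Type*} (h : Nat.card X = 2) (a b c : X) : a = b ∨ a = c ∨ b = c := by
  obtain ⟨x, y, hxy, huniv⟩ := Nat.card_eq_two_iff.mp h
  have ha : a ∈ ({x, y} : Set X) := by rw [huniv]; trivial
  have hb : b ∈ ({x, y} : Set X) := by rw [huniv]; trivial
  have hc : c ∈ ({x, y} : Set X) := by rw [huniv]; trivial
  simp only [Set.mem_insert_iff, Set.mem_singleton_iff] at ha hb hc
  rcases ha with rfl | rfl <;> rcases hb with rfl | rfl <;> rcases hc with rfl | rfl <;> simp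

end general

section sl2

variable {F : Type u} [Field F] [Fintype F] [DecidableEq F]

theorem classInner_thetaS [Fintype ↥(BS F)] (α β : MulChar F ℂ) :
    Cfsg.classInner (thetaS α) (thetaS β) = if α = β then 1 else 0 := by
  rw [classInner_irr (thetaS_isIrr α) (thetaS_isIrr β)]
  by_cases h : α = β
  · rw [if_pos h, if_pos (by rw [h])]
  · rw [if_neg h, if_neg]
    intro hc
    apply h
    apply MulChar.ext
    intro a
    exact congrFun hc (bS a 0)

theorem BS_irr_dvd [Fintype ↥(BS F)] {k : ℕ} (hk : Fintype.card F = 2 * k + 1)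
    {φ : ↥(BS F) → ℂ} (hφ : Cfsg.IsIrrCharacter ↥(BS F) φ)
    (h : ∀ α : MulChar F ℂ, Cfsg.classInner (thetaS α) φ = 0) {n : ℕ} (hn : φ 1 = (n : ℂ)) :
    k ∣ n := by
  have hodd : Odd (Fintype.card F) := ⟨k, hk⟩
  have hq2 : 1 < Fintype.card F := Fintype.one_lt_card
  obtain ⟨ν, -, hν⟩ := exists_twist_of_odd (ringChar_ne_two_of_odd hodd)
  have h1 := BS_fourier φ 1 0 (fun α => by rw [h α]; simp) 1
  have h2 := unip_sum (IsIrrCharacter.isClassFunction hφ) hν
  rw [h1] at h2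
  obtain ⟨c0, -, -⟩ := card_casts hk
  apply nat_dvd_of_eq (by omega) ((irr_isIntegral hφ (bS 1 1)).add (irr_isIntegral hφ (bS 1 ν)))
  rw [← hn]
  rw [c0] at h2
  simp only [map_zero, mul_zero, zero_mul] at h2
  linear_combination (-(1 / 2 : ℂ)) * h2

theorem BS_irr_of_deg [Fintype ↥(BS F)] {k : ℕ} (hk : Fintype.card F = 2 * k + 1)
    {η : ↥(BS F) → ℂ} (hη : Cfsg.IsCharacter ↥(BS F) η) (hdeg : η 1 = (k : ℂ))
    (h : ∀ α : MulChar F ℂ, Cfsg.classInner η (thetaS α) = 0) :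
    Cfsg.IsIrrCharacter ↥(BS F) η := by
  have hq2 : 1 < Fintype.card F := Fintype.one_lt_card
  have hk0 : k ≠ 0 := by omega
  obtain ⟨φ, hφ, hne⟩ := exists_irr_constituent hη (by rw [hdeg]; exact_mod_cast hk0)
  have hφθ : ∀ α : MulChar F ℂ, Cfsg.classInner (thetaS α) φ = 0 := by
    intro α
    apply classInner_irr_ne (thetaS_isIrr α) hφ
    rintro rfl
    exact hne (h α)
  obtain ⟨n, hn0, hn⟩ := IsIrrCharacter.degree_pos hφ
  have hdvd := BS_irr_dvd hk hφ hφθ hn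
  have hle := degree_le_of_classInner_ne_zero hη hφ hne hn hdeg
  have heq : n = k := Nat.le_antisymm hle (Nat.le_of_dvd hn0 hdvd)
  have h5 : η = φ := eq_of_constituent_deg hη hφ hne (by rw [hdeg, hn, heq])
  rw [h5]
  exact hφ

/-- the central element `-1` -/
def zS (F : Type u) [Field F] : Matrix.SpecialLinearGroup (Fin 2) F :=
  (bS (-1 : Fˣ) (0 : F) : ↥(BS F))

theorem zS_val : (zS F).1 = !![-1, 0; 0, -1] := by
  show (bS (-1 : Fˣ) (0 : F) : ↥(BS F)).1.1 = _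
  rw [bS_val]
  simp

theorem zS_center : zS F ∈ Subgroup.center (Matrix.SpecialLinearGroup (Fin 2) F) := by
  rw [Subgroup.mem_center_iff]
  intro g
  apply Subtype.ext
  rw [Matrix.SpecialLinearGroup.coe_mul, Matrix.SpecialLinearGroup.coe_mul, zS_val]
  ext i j
  fin_cases i <;> fin_cases j <;> simp [Matrix.mul_apply, Fin.sum_univ_two]

theorem bS_neg_one (c : F) :
    ((bS (-1 : Fˣ) c : ↥(BS F)) : Matrix.SpecialLinearGroup (Fin 2) F) =
      zS F * (bS (1 : Fˣ) (-c) : ↥(BS F)) := by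
  apply Subtype.ext
  rw [Matrix.SpecialLinearGroup.coe_mul, zS_val, bS_val, bS_val]
  ext i j
  fin_cases i <;> fin_cases j <;> simp [Matrix.mul_apply, Fin.sum_univ_two]

theorem bS_one_inv (c : F) : (bS (1 : Fˣ) c : ↥(BS F))⁻¹ = bS (1 : Fˣ) (-c) := by
  apply inv_eq_of_mul_eq_one_right
  apply Subtype.ext
  apply Subtype.ext
  rw [Subgroup.coe_mul, Matrix.SpecialLinearGroup.coe_mul, bS_val, bS_val]
  ext i j
  fin_cases i <;> fin_cases j <;> simp [Matrix.mul_apply, Fin.sum_univ_two]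

/-- the norm of the restriction to the upper triangular subgroup -/
theorem BS_norm_sum [Fintype ↥(BS F)] (hF : ringChar F ≠ 2)
    {ψ : Matrix.SpecialLinearGroup (Fin 2) F → ℂ}
    (hψ : Cfsg.IsIrrCharacter (Matrix.SpecialLinearGroup (Fin 2) F) ψ) (w : ℂ)
    (hw : ∀ (a : Fˣ) (c : F), (a : F) ^ 2 ≠ 1 →
      ψ (bS a c : ↥(BS F)) * conj (ψ (bS a c : ↥(BS F))) = w)
    {ν : F} (hν : IsTwist ν) :
    2 * (((Fintype.card F : ℂ) - 1) * (Fintype.card F : ℂ) *
      Cfsg.classInner (fun b : ↥(BS F) => ψ b) (fun b : ↥(BS F) => ψ b)) =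
      2 * (2 * (ψ 1 * conj (ψ 1)) + ((Fintype.card F : ℂ) - 1) *
        (ψ (bS (1 : Fˣ) 1 : ↥(BS F)) * conj (ψ (bS (1 : Fˣ) 1 : ↥(BS F))) +
          ψ (bS (1 : Fˣ) ν : ↥(BS F)) * conj (ψ (bS (1 : Fˣ) ν : ↥(BS F))))) +
      2 * (((Fintype.card F : ℂ) - 3) * (Fintype.card F : ℂ) * w) := by
  obtain ⟨hq0, hq1⟩ := card_F_cast_ne (F := F)
  have hB : ((Fintype.card F : ℂ) - 1) * (Fintype.card F : ℂ) ≠ 0 := mul_ne_zero hq1 hq0
  have hcl := IsIrrCharacter.isClassFunction hψ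
  obtain ⟨T1, hT1def⟩ : ∃ T1 : ℂ, T1 = ∑ c : F, ψ (bS (1 : Fˣ) c : ↥(BS F)) *
      conj (ψ (bS (1 : Fˣ) c : ↥(BS F))) := ⟨_, rfl⟩
  have hT1 : 2 * T1 = 2 * (ψ 1 * conj (ψ 1)) + ((Fintype.card F : ℂ) - 1) *
        (ψ (bS (1 : Fˣ) 1 : ↥(BS F)) * conj (ψ (bS (1 : Fˣ) 1 : ↥(BS F))) +
          ψ (bS (1 : Fˣ) ν : ↥(BS F)) * conj (ψ (bS (1 : Fˣ) ν : ↥(BS F)))) := by
    rw [hT1def]
    exact unip_sum (φ := fun b : ↥(BS F) => ψ b * conj (ψ b)) (by
      intro b h
      show ψ ((h * b * h⁻¹ : ↥(BS F)) : Matrix.SpecialLinearGroup (Fin 2) F) *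
        conj (ψ ((h * b * h⁻¹ : ↥(BS F)) : Matrix.SpecialLinearGroup (Fin 2) F)) = ψ b * conj (ψ b)
      rw [show ψ ((h * b * h⁻¹ : ↥(BS F)) : Matrix.SpecialLinearGroup (Fin 2) F) = ψ b from
        res_isClass hcl b h]) hν
  obtain ⟨lam, hlam, hz⟩ := central_char hψ (zS_center (F := F))
  have hTm : ∑ c : F, ψ (bS (-1 : Fˣ) c : ↥(BS F)) * conj (ψ (bS (-1 : Fˣ) c : ↥(BS F))) = T1 := by
    rw [hT1def, ← Equiv.sum_comp (Equiv.neg F) (fun c => ψ (bS (1 : Fˣ) c : ↥(BS F)) *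
      conj (ψ (bS (1 : Fˣ) c : ↥(BS F))))]
    apply Finset.sum_congr rfl
    intro c _
    rw [bS_neg_one, hz, map_mul]
    simp only [Equiv.neg_apply]
    linear_combination (ψ (bS (1 : Fˣ) (-c) : ↥(BS F)) *
      conj (ψ (bS (1 : Fˣ) (-c) : ↥(BS F)))) * hlam
  have hTa : ∀ a : Fˣ, a ≠ 1 → a ≠ -1 →
      ∑ c : F, ψ (bS a c : ↥(BS F)) * conj (ψ (bS a c : ↥(BS F))) = (Fintype.card F : ℂ) * w := by
    intro a h1 h2
    have ha : (a : F) ^ 2 ≠ 1 := by
      intro hc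
      have h3 : ((a : F) - 1) * ((a : F) + 1) = 0 := by linear_combination hc
      rcases mul_eq_zero.mp h3 with h4 | h4
      · exact h1 (Units.ext (by rw [Units.val_one]; exact sub_eq_zero.mp h4))
      · exact h2 (Units.ext (by rw [Units.val_neg, Units.val_one]; linear_combination h4))
    rw [Finset.sum_congr rfl (fun c _ => hw a c ha), Finset.sum_const, Finset.card_univ, nsmul_eq_mul]
  have hne : (1 : Fˣ) ≠ -1 := by
    intro h
    have h2 : (1 : F) = -1 := by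
      have h3 := congrArg Units.val h
      rwa [Units.val_neg, Units.val_one] at h3
    apply hF
    apply CharP.ringChar_of_prime_eq_zero Nat.prime_two
    push_cast
    linear_combination h2
  have hsplit : ∀ a : Fˣ, ∑ c : F, ψ (bS a c : ↥(BS F)) * conj (ψ (bS a c : ↥(BS F))) =
      (Fintype.card F : ℂ) * w + (if a = 1 then T1 - (Fintype.card F : ℂ) * w else 0) +
        (if a = -1 then T1 - (Fintype.card F : ℂ) * w else 0) := by
    intro a
    by_cases h1 : a = 1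
    · subst h1
      rw [if_pos rfl, if_neg hne, ← hT1def]
      ring
    · by_cases h2 : a = -1
      · subst h2
        rw [if_neg h1, if_pos rfl, hTm]
        ring
      · rw [if_neg h1, if_neg h2, hTa a h1 h2]
        ring
  have hcardU : ((Fintype.card Fˣ : ℕ) : ℂ) = (Fintype.card F : ℂ) - 1 := by
    rw [Fintype.card_units, Nat.cast_sub Fintype.card_pos]
    simp
  rw [Cfsg.classInner, sum_BS, card_BS_cast, Finset.sum_congr rfl (fun a _ => hsplit a),
    Finset.sum_add_distrib, Finset.sum_add_distrib, Finset.sum_ite_eq', Finset.sum_ite_eq',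
    if_pos (Finset.mem_univ _), if_pos (Finset.mem_univ _), Finset.sum_const, Finset.card_univ,
    nsmul_eq_mul, hcardU, mul_inv_cancel_left₀ hB]
  linear_combination 2 * hT1

/-- the final computation of the values at the transvection -/
theorem final_alg {k : ℕ} (hk : Fintype.card F = 2 * k + 1)
    {ψ : Matrix.SpecialLinearGroup (Fin 2) F → ℂ}
    (hψ : Cfsg.IsCharacter (Matrix.SpecialLinearGroup (Fin 2) F) ψ) {ν : F} (hν : IsTwist ν)
    (s : ℂ) (hs : s ^ 2 = 1)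
    (hxy : ψ (bS (1 : Fˣ) 1 : ↥(BS F)) + ψ (bS (1 : Fˣ) ν : ↥(BS F)) = s)
    (hn : ψ (bS (1 : Fˣ) 1 : ↥(BS F)) * conj (ψ (bS (1 : Fˣ) 1 : ↥(BS F))) +
      ψ (bS (1 : Fˣ) ν : ↥(BS F)) * conj (ψ (bS (1 : Fˣ) ν : ↥(BS F))) = (k : ℂ) + 1) :
    (2 * ψ (bS (1 : Fˣ) 1 : ↥(BS F)) - s) ^ 2 = (-1 : ℂ) ^ k * (Fintype.card F : ℂ) := by
  obtain ⟨c0, -, -⟩ := card_casts hk
  have hcl := res_isClass (IsCharacter.isClassFunction hψ)
  have hinv : ∀ c : F, conj (ψ (bS (1 : Fˣ) c : ↥(BS F))) = ψ (bS (1 : Fˣ) (-c) : ↥(BS F)) := by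
    intro c
    rw [← IsCharacter.inv hψ, ← Subgroup.coe_inv, bS_one_inv]
  have hsqc : ∀ (t : F), t ≠ 0 → ∀ c : F,
      ψ (bS (1 : Fˣ) (t * t * c) : ↥(BS F)) = ψ (bS (1 : Fˣ) c : ↥(BS F)) := by
    intro t ht c
    have h1 := conj_unipS (Units.mk0 t ht) c
    rw [Units.val_mk0, pow_two] at h1
    rw [h1]
    exact hcl _ _
  rw [c0]
  by_cases hsq : IsSquare (-1 : F)
  · obtain ⟨t, ht⟩ := hsq
    have ht0 : t ≠ 0 := by
      rintro rfl
      simp at ht
    have hreal : ∀ c : F, conj (ψ (bS (1 : Fˣ) c : ↥(BS F))) = ψ (bS (1 : Fˣ) c : ↥(BS F)) := by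
      intro c
      rw [hinv, ← hsqc t ht0 c, ← ht]
      congr 3
      ring
    have hkeven : Even k := by
      have h4 := (FiniteField.isSquare_neg_one_iff (F := F)).mp ⟨t, ht⟩
      rw [Nat.even_iff]
      omega
    rw [hkeven.neg_one_pow, one_mul]
    rw [hreal, hreal] at hn
    linear_combination 2 * hn - 2 * (ψ (bS (1 : Fˣ) ν : ↥(BS F)) + s -
      ψ (bS (1 : Fˣ) 1 : ↥(BS F))) * hxy - hs
  · obtain ⟨t, ht⟩ := hν.2 (-1) (neg_ne_zero.mpr one_ne_zero) hsq
    have ht0 : t ≠ 0 := by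
      rintro rfl
      rw [mul_zero] at ht
      have h5 : ν = 0 := by linear_combination -ht
      exact hν.1 h5
    have hconj : conj (ψ (bS (1 : Fˣ) 1 : ↥(BS F))) = ψ (bS (1 : Fˣ) ν : ↥(BS F)) := by
      rw [hinv, ← hsqc t ht0 (-1), ← ht]
      congr 3
      ring
    have hconj' : conj (ψ (bS (1 : Fˣ) ν : ↥(BS F))) = ψ (bS (1 : Fˣ) 1 : ↥(BS F)) := by
      rw [← hconj, Complex.conj_conj]
    have hkodd : Odd k := by
      have h4 := (FiniteField.isSquare_neg_one_iff (F := F)).not.mp hsq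
      rw [Nat.odd_iff]
      omega
    rw [hkodd.neg_one_pow]
    rw [hconj, hconj'] at hn
    linear_combination (-2 : ℂ) * hn + 4 * ψ (bS (1 : Fˣ) 1 : ↥(BS F)) * hxy + hs

/-- inner products of a constituent of the quadratic induced character with all induced characters -/
theorem half_inner (hodd : Odd (Fintype.card F))
    {χ : Matrix.SpecialLinearGroup (Fin 2) F → ℂ}
    (hχ : Cfsg.IsIrrCharacter (Matrix.SpecialLinearGroup (Fin 2) F) χ)
    (hne : Cfsg.classInner (Cfsg.indFun (BS F) (thetaS (epsC F))) χ ≠ 0) (α : MulChar F ℂ) :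
    Cfsg.classInner (Cfsg.indFun (BS F) (thetaS α)) χ = if α = epsC F then 1 else 0 := by
  have hF := ringChar_ne_two_of_odd hodd
  obtain ⟨hq0, hq1⟩ := card_F_cast_ne (F := F)
  have hdeg := half_deg (epsC_ne_one hF) epsC_sq hχ hne
  by_cases hα : α = epsC F
  · rw [if_pos hα, hα]
    obtain ⟨χ₁, χ₂, i1, i2, hne12, hsum, -⟩ := half_decomp (epsC F) epsC_sq (epsC_ne_one hF)
    rcases half_mem i1 i2 hsum hχ hne with rfl | rfl
    · rw [hsum, classInner_add_left, classInner_irr_self i1,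
        classInner_irr_ne i2 i1 (Ne.symm hne12)]
      ring
    · rw [hsum, classInner_add_left, classInner_irr_self i2, classInner_irr_ne i1 i2 hne12]
      ring
  · rw [if_neg hα]
    by_cases h2 : α ^ 2 = 1
    · have h1 : α = 1 := by
        by_contra h1
        exact hα (eps_unique α h2 h1)
      subst h1
      have e1 : (fun _ : Matrix.SpecialLinearGroup (Fin 2) F => (1 : ℂ)) ≠ χ := by
        intro h
        rw [← h] at hdeg
        apply hq1
        linear_combination -hdeg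
      have e2 : stS F ≠ χ := by
        intro h
        rw [← h, stS_one] at hdeg
        apply hq1
        linear_combination hdeg
      rw [indS_one_eq, classInner_add_left, classInner_irr_ne isIrrCharacter_one hχ e1,
        classInner_irr_ne stS_isIrr hχ e2, add_zero]
    · apply classInner_irr_ne ((indS_irr_iff α).mpr h2) hχ
      intro h
      rw [← h, indS_one] at hdeg
      have h3 : ((Fintype.card F + 1 : ℕ) : ℂ) = 0 := by
        push_cast
        linear_combination hdeg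
      have h4 : Fintype.card F + 1 = 0 := by exact_mod_cast h3
      omega

/-- values of the characters of degree `(q+1)/2` at the transvection -/
theorem half_u {k : ℕ} (hk : Fintype.card F = 2 * k + 1)
    {χ : Matrix.SpecialLinearGroup (Fin 2) F → ℂ}
    (hχ : Cfsg.IsIrrCharacter (Matrix.SpecialLinearGroup (Fin 2) F) χ)
    (hne : Cfsg.classInner (Cfsg.indFun (BS F) (thetaS (epsC F))) χ ≠ 0) :
    (2 * χ (bS (1 : Fˣ) 1 : ↥(BS F)) - 1) ^ 2 = (-1 : ℂ) ^ k * (Fintype.card F : ℂ) := by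
  classical
  have hFB : Fintype ↥(BS F) := Fintype.ofFinite _
  have hodd : Odd (Fintype.card F) := ⟨k, hk⟩
  have hF := ringChar_ne_two_of_odd hodd
  obtain ⟨c0, c1, c2⟩ := card_casts hk
  obtain ⟨hq0, hq1⟩ := card_F_cast_ne (F := F)
  have hq2 : 1 < Fintype.card F := Fintype.one_lt_card
  have hk0 : (k : ℂ) ≠ 0 := by
    have : k ≠ 0 := by omega
    exact_mod_cast this
  obtain ⟨ν, hνns, hν⟩ := exists_twist_of_odd hF
  have hcl := IsIrrCharacter.isClassFunction hχ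
  have hdeg : χ 1 = (k : ℂ) + 1 := by
    have h1 := half_deg (epsC_ne_one hF) epsC_sq hχ hne
    rw [c0] at h1
    linear_combination (1 / 2 : ℂ) * h1
  obtain ⟨Φ, hΦ⟩ : ∃ Φ : ↥(BS F) → ℂ, Φ = fun b : ↥(BS F) => χ b := ⟨_, rfl⟩
  have hΦv : ∀ b : ↥(BS F), Φ b = χ b := fun b => by rw [hΦ]
  have hΦcl : Cfsg.IsClassFunction ↥(BS F) Φ := by
    rw [hΦ]
    exact res_isClass hcl
  have hΦchar : Cfsg.IsCharacter ↥(BS F) Φ := by
    rw [hΦ]
    exact IsCharacter.restrict (IsIrrCharacter.isCharacter hχ) (BS F)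
  have hres : ∀ α : MulChar F ℂ, Cfsg.classInner (thetaS α) Φ =
      if α = epsC F then 1 else 0 := by
    intro α
    rw [hΦ, ← frobenius_reciprocity _ _ hcl, half_inner hodd hχ hne α]
  have hS := BS_fourier Φ (epsC F) 1 hres
  have hxy : χ (bS (1 : Fˣ) 1 : ↥(BS F)) + χ (bS (1 : Fˣ) ν : ↥(BS F)) = 1 := by
    have h1 := unip_sum hΦcl hν
    rw [hS 1, hΦv, hΦv, hΦv] at h1
    simp only [map_one, mul_one, Units.val_one] at h1
    have h1' : 2 * (Fintype.card F : ℂ) = 2 * χ 1 + ((Fintype.card F : ℂ) - 1) *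
        (χ (bS (1 : Fˣ) 1 : ↥(BS F)) + χ (bS (1 : Fˣ) ν : ↥(BS F))) := h1
    rw [hdeg, c0] at h1'
    have h3 : (k : ℂ) * (χ (bS (1 : Fˣ) 1 : ↥(BS F)) + χ (bS (1 : Fˣ) ν : ↥(BS F)) - 1) = 0 := by
      linear_combination (-(1 / 2 : ℂ)) * h1'
    have h4 := (mul_eq_zero.mp h3).resolve_left hk0
    linear_combination h4
  have hw : ∀ (a : Fˣ) (c : F), (a : F) ^ 2 ≠ 1 →
      χ (bS a c : ↥(BS F)) * conj (χ (bS a c : ↥(BS F))) = 1 := by
    intro a c ha
    have h2 : ∀ c' : F, Φ (bS a c') = Φ (bS a 0) := by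
      intro c'
      obtain ⟨h, hh⟩ := conj_diagS a ha c'
      rw [hh]
      exact hΦcl _ _
    have h3 := hS a
    rw [Finset.sum_congr rfl (fun c _ => h2 c), Finset.sum_const, Finset.card_univ, nsmul_eq_mul,
      map_one, mul_one] at h3
    have h4 : Φ (bS a 0) = epsC F a := mul_left_cancel₀ hq0 h3
    rw [← hΦv, h2 c, h4, epsC_apply, map_intCast]
    rcases quadraticChar_dichotomy a.ne_zero with h | h <;> rw [h] <;> norm_num
  have hnorm : Cfsg.classInner Φ Φ = 2 := by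
    have h1 : Cfsg.classInner Φ (thetaS (epsC F)) = 1 := by
      rw [← classInner_conj_symm, hres, if_pos rfl, map_one]
    have hη := sub_irr_isChar hΦchar (thetaS_isIrr (epsC F)) h1
    have hηdeg : (Φ - thetaS (epsC F)) 1 = (k : ℂ) := by
      rw [Pi.sub_apply, hΦv]
      have e1 : thetaS (epsC F) (1 : ↥(BS F)) = 1 := by
        show epsC F ((1 : Matrix (Fin 2) (Fin 2) F) 0 0) = 1
        simp
      rw [e1]
      show χ 1 - 1 = (k : ℂ)
      rw [hdeg]
      ring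
    have hηorth : ∀ α : MulChar F ℂ,
        Cfsg.classInner (Φ - thetaS (epsC F)) (thetaS α) = 0 := by
      intro α
      rw [classInner_sub_left, ← classInner_conj_symm, hres, classInner_thetaS]
      by_cases h : α = epsC F
      · rw [if_pos h, if_pos h.symm]
        simp
      · rw [if_neg h, if_neg (Ne.symm h)]
        simp
    have hηirr := BS_irr_of_deg hk hη hηdeg hηorth
    have e : Φ = thetaS (epsC F) + (Φ - thetaS (epsC F)) := by ring
    have h5 : Cfsg.classInner (thetaS (epsC F)) (Φ - thetaS (epsC F)) = 0 := by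
      rw [← classInner_conj_symm, hηorth, map_zero]
    rw [e, classInner_add_left, classInner_add_right, classInner_add_right, classInner_thetaS,
      if_pos rfl, classInner_irr_self hηirr, hηorth, h5]
    norm_num
  have hsum := BS_norm_sum hF hχ 1 hw hν
  rw [← hΦ, hnorm, hdeg, c0] at hsum
  have hconj : (starRingEnd ℂ) ((k : ℂ) + 1) = (k : ℂ) + 1 := by
    rw [map_add, Complex.conj_natCast, map_one]
  rw [hconj] at hsum
  have hn : χ (bS (1 : Fˣ) 1 : ↥(BS F)) * conj (χ (bS (1 : Fˣ) 1 : ↥(BS F))) +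
      χ (bS (1 : Fˣ) ν : ↥(BS F)) * conj (χ (bS (1 : Fˣ) ν : ↥(BS F))) = (k : ℂ) + 1 := by
    have h3 : (k : ℂ) * (χ (bS (1 : Fˣ) 1 : ↥(BS F)) * conj (χ (bS (1 : Fˣ) 1 : ↥(BS F))) +
        χ (bS (1 : Fˣ) ν : ↥(BS F)) * conj (χ (bS (1 : Fˣ) ν : ↥(BS F))) - ((k : ℂ) + 1)) = 0 := by
      linear_combination (-(1 / 4 : ℂ)) * hsum
    have h4 := (mul_eq_zero.mp h3).resolve_left hk0
    linear_combination h4
  exact final_alg hk (IsIrrCharacter.isCharacter hχ) hν 1 (by norm_num) hxy hn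

/-- values of the cuspidal characters of degree `(q-1)/2` at the transvection -/
theorem cusp_half_u {k : ℕ} (hk : Fintype.card F = 2 * k + 1)
    {ψ : Matrix.SpecialLinearGroup (Fin 2) F → ℂ} (hψ : IsCuspS ψ) (hdeg : ψ 1 = (k : ℂ)) :
    (2 * ψ (bS (1 : Fˣ) 1 : ↥(BS F)) + 1) ^ 2 = (-1 : ℂ) ^ k * (Fintype.card F : ℂ) := by
  classical
  have hFB : Fintype ↥(BS F) := Fintype.ofFinite _
  have hodd : Odd (Fintype.card F) := ⟨k, hk⟩
  have hF := ringChar_ne_two_of_odd hodd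
  obtain ⟨c0, c1, c2⟩ := card_casts hk
  obtain ⟨hq0, hq1⟩ := card_F_cast_ne (F := F)
  have hq2 : 1 < Fintype.card F := Fintype.one_lt_card
  have hk0 : (k : ℂ) ≠ 0 := by
    have : k ≠ 0 := by omega
    exact_mod_cast this
  obtain ⟨ν, hνns, hν⟩ := exists_twist_of_odd hF
  have hcl := IsIrrCharacter.isClassFunction hψ.1
  obtain ⟨Φ, hΦ⟩ : ∃ Φ : ↥(BS F) → ℂ, Φ = fun b : ↥(BS F) => ψ b := ⟨_, rfl⟩
  have hΦchar : Cfsg.IsCharacter ↥(BS F) Φ := by
    rw [hΦ]
    exact IsCharacter.restrict (IsIrrCharacter.isCharacter hψ.1) (BS F)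
  have hres : ∀ α : MulChar F ℂ, Cfsg.classInner (thetaS α) Φ = 0 := by
    intro α
    rw [hΦ, ← frobenius_reciprocity _ _ hcl, hψ.2 α]
  have hxy : ψ (bS (1 : Fˣ) 1 : ↥(BS F)) + ψ (bS (1 : Fˣ) ν : ↥(BS F)) = -1 := by
    have h1 := cuspS_unip hψ hν
    rw [hdeg, c0] at h1
    have h3 : (k : ℂ) * (ψ (bS (1 : Fˣ) 1 : ↥(BS F)) + ψ (bS (1 : Fˣ) ν : ↥(BS F)) + 1) = 0 := by
      linear_combination (1 / 2 : ℂ) * h1
    have h4 := (mul_eq_zero.mp h3).resolve_left hk0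
    linear_combination h4
  have hw : ∀ (a : Fˣ) (c : F), (a : F) ^ 2 ≠ 1 →
      ψ (bS a c : ↥(BS F)) * conj (ψ (bS a c : ↥(BS F))) = 0 := by
    intro a c ha
    rw [cuspS_diag hψ a ha c, zero_mul]
  have hirr : Cfsg.IsIrrCharacter ↥(BS F) Φ := by
    apply BS_irr_of_deg hk hΦchar
    · rw [hΦ]
      exact hdeg
    · intro α
      rw [← classInner_conj_symm, hres, map_zero]
  have hnorm : Cfsg.classInner Φ Φ = 1 := classInner_irr_self hirr
  have hsum := BS_norm_sum hF hψ.1 0 hw hν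
  rw [← hΦ, hnorm, hdeg, c0, Complex.conj_natCast] at hsum
  have hn : ψ (bS (1 : Fˣ) 1 : ↥(BS F)) * conj (ψ (bS (1 : Fˣ) 1 : ↥(BS F))) +
      ψ (bS (1 : Fˣ) ν : ↥(BS F)) * conj (ψ (bS (1 : Fˣ) ν : ↥(BS F))) = (k : ℂ) + 1 := by
    have h3 : (k : ℂ) * (ψ (bS (1 : Fˣ) 1 : ↥(BS F)) * conj (ψ (bS (1 : Fˣ) 1 : ↥(BS F))) +
        ψ (bS (1 : Fˣ) ν : ↥(BS F)) * conj (ψ (bS (1 : Fˣ) ν : ↥(BS F))) - ((k : ℂ) + 1)) = 0 := by
      linear_combination (-(1 / 4 : ℂ)) * hsum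
    have h4 := (mul_eq_zero.mp h3).resolve_left hk0
    linear_combination h4
  have h5 := final_alg hk (IsIrrCharacter.isCharacter hψ.1) hν (-1) (by norm_num) hxy hn
  rw [sub_neg_eq_add] at h5
  exact h5

end sl2

end Cfsg.Agent.Lib.Helper13.SL2Irr4
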