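import Mathlib
import Cfsg.Agent.Lib.Helper2.SimpleIndex

set_option autoImplicit false

namespace Cfsg.Agent.Lib.Helper13.SmallSimple

variable {G : Type*} [Group G] [Finite G]

/-- If `|N(P)|` is coprime to `p - 1` for a Sylow subgroup `P` of prime order `p`,
then `N(P) ≤ C(P)`. -/
theorem normalizer_le_centralizer_of_coprime {p : ℕ} [hp : Fact p.Prime] (P : Sylow p G)
    (hP : Nat.card (P : Subgroup G) = p)
    (hco : Nat.Coprime (Nat.card (Subgroup.normalizer ((P : Subgroup G) : Set G))) (p - 1)) :
    Subgroup.normalizer ((P : Subgroup G) : Set G) ≤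
      Subgroup.centralizer ((P : Subgroup G) : Set G) := by
  have hcyc : IsCyclic (P : Subgroup G) := isCyclic_of_prime_card hP
  have key := Subgroup.card_dvd_of_injective _
    (QuotientGroup.kerLift_injective (P : Subgroup G).normalizerMonoidHom)
  rw [Subgroup.normalizerMonoidHom_ker, ← Subgroup.index, ← Subgroup.relIndex] at key
  rw [hcyc.card_mulAut, hP, Nat.totient_prime hp.out] at key
  exact Subgroup.relIndex_eq_one.mp
    (Nat.eq_one_of_dvd_coprimes hco (Subgroup.relIndex_dvd_card _ _) key)

/-- Burnside's transfer theorem excludes `N(P) ≤ C(P)` in a simple group, for a nontrivial proper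
Sylow subgroup. -/
theorem false_of_normalizer_le_centralizer [IsSimpleGroup G] {p : ℕ} [hp : Fact p.Prime]
    (P : Sylow p G) (h1 : 1 < Nat.card (P : Subgroup G))
    (h2 : Nat.card (P : Subgroup G) < Nat.card G)
    (hNC : Subgroup.normalizer ((P : Subgroup G) : Set G) ≤
      Subgroup.centralizer ((P : Subgroup G) : Set G)) : False := by
  have hc := MonoidHom.ker_transferSylow_isComplement' P hNC
  have hcard := hc.card_mul_card
  have hpos : 0 < Nat.card G := Nat.card_pos
  rcases (Subgroup.Normal.eq_bot_or_eq_top
    (H := (MonoidHom.transferSylow P hNC).ker) inferInstance) with h | h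
  · rw [h, Subgroup.card_bot] at hcard; omega
  · rw [h, Subgroup.card_top] at hcard; nlinarith

/-- A homomorphism from a simple group of order `> 2` to `ℤˣ` is trivial. -/
theorem hom_int_units_eq_one [IsSimpleGroup G] (hgt : 2 < Nat.card G) (s : G →* ℤˣ) (g : G) :
    s g = 1 := by
  have hker : s.ker = ⊤ := by
    rcases (Subgroup.Normal.eq_bot_or_eq_top (H := s.ker) inferInstance) with h | h
    · exfalso
      have hsinj : Function.Injective s := (MonoidHom.ker_eq_bot_iff s).mp h
      have h1 := Nat.card_le_card_of_injective s hsinj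
      have h2 : Nat.card ℤˣ = 2 := by
        rw [Nat.card_eq_fintype_card]; exact Fintype.card_units_int
      omega
    · exact h
  have hg : g ∈ s.ker := by rw [hker]; exact Subgroup.mem_top g
  exact hg

/-- The index of a Sylow subgroup. -/
theorem sylow_index_of {p : ℕ} [hp : Fact p.Prime] (k m : ℕ) (hN : Nat.card G = p ^ k * m)
    (hm : ¬ p ∣ m) (P : Sylow p G) : (P : Subgroup G).index = m := by
  have h1 := Cfsg.Agent.Lib.Helper2.SimpleIndex.sylow_card_of k m hN hm P
  have h2 := (P : Subgroup G).card_mul_index
  rw [h1, hN] at h2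
  exact Nat.eq_of_mul_eq_mul_left (pow_pos hp.out.pos k) h2

/-- The order of the normalizer of a Sylow subgroup from the number of Sylow subgroups. -/
theorem card_normalizer_mul {p : ℕ} [hp : Fact p.Prime] (P : Sylow p G) :
    Nat.card (Subgroup.normalizer ((P : Subgroup G) : Set G)) * Nat.card (Sylow p G) =
      Nat.card G := by
  rw [Sylow.card_eq_index_normalizer P]
  exact (Subgroup.normalizer ((P : Subgroup G) : Set G)).card_mul_index

end Cfsg.Agent.Lib.Helper13.SmallSimple
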